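import Cfsg.Agent.Lib.TwoGroupTricks.Isolated
import Cfsg.Agent.Lib.Involutions.BrauerSuzuki
import Cfsg.Agent.S0949
import Cfsg.Agent.S0205
import Cfsg.Prelude.Def_CaseTheorems
import Cfsg.Prelude.Def_TwoFusion

/-!
# Simple groups of 2-rank two: the hypotheses of the Sylow type theorem
-/

set_option autoImplicit false
set_option linter.style.haveILetI false
open Cfsg

namespace CfsgLib.GWApps.RankTwoSimple

universe u

variable {G : Type u} [Group G] [Finite G] [IsSimpleGroup G]

theorem even_card (hG : ¬ IsMulCommutative G) : 2 ∣ Nat.card G := by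
  by_contra h
  haveI : Group.IsSolvable G := Cfsg.Agent.S0205.result
    (Nat.not_even_iff_odd.1 fun he => h (even_iff_two_dvd.1 he))
  exact hG ⟨⟨IsSimpleGroup.comm_iff_isSolvable.2 inferInstance⟩⟩

theorem oddCore_eq_bot (hG : ¬ IsMulCommutative G) : Cfsg.oddCore G = ⊥ := by
  haveI : (Cfsg.oddCore G).Normal := by
    haveI := CfsgLib.Cores.pPrimeCore_characteristic 2 G
    rw [Cfsg.oddCore]; infer_instance
  rcases (inferInstance : (Cfsg.oddCore G).Normal).eq_bot_or_eq_top with h | h
  · exact h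
  exfalso
  have := CfsgLib.Cores.odd_card_oddCore (G := G)
  rw [h, Subgroup.card_top] at this
  exact (Nat.not_even_iff_odd.2 this) (even_iff_two_dvd.2 (even_card hG))

theorem not_isIsolatedInvolution (hG : ¬ IsMulCommutative G) (z : G) :
    ¬ Cfsg.IsIsolatedInvolution z := by
  intro hz
  haveI : Fact (Nat.Prime 2) := ⟨Nat.prime_two⟩
  obtain ⟨P, hP⟩ := (CfsgLib.TwoGroupTricks.isPGroup_zpowers (p := 2)
    (x := z) ⟨1, by rw [hz.1, pow_one]⟩).exists_le_sylow
  have hzP : z ∈ (P : Subgroup G) := hP (Subgroup.mem_zpowers z)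
  have hc := CfsgLib.Involutions.mem_center_of_isolated P hz.1
    (fun g hg => CfsgLib.TwoGroupTricks.conj_eq_of_mem hz.2 P.isPGroup' hzP hg)
    (oddCore_eq_bot hG)
  rcases (inferInstance : (Subgroup.center G).Normal).eq_bot_or_eq_top with h | h
  · rw [h, Subgroup.mem_bot] at hc
    have := hz.1
    rw [hc, orderOf_one] at this
    omega
  · exact hG ⟨⟨fun a b => Subgroup.mem_center_iff.1 (h ▸ Subgroup.mem_top b) a⟩⟩

theorem not_pRankLE_one (hG : ¬ IsMulCommutative G) : ¬ Cfsg.PRankLE 2 1 G := by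
  intro h1
  haveI : Fact (Nat.Prime 2) := ⟨Nat.prime_two⟩
  obtain ⟨z, hz⟩ := exists_prime_orderOf_dvd_card' 2 (even_card hG)
  refine not_isIsolatedInvolution hG z ⟨hz, fun g hg => ?_⟩
  by_contra hne
  set w := g * z * g⁻¹ with hw
  have hw2 : orderOf w = 2 := by
    rw [hw, show g * z * g⁻¹ = MulAut.conj g z from rfl, MulEquiv.orderOf_eq, hz]
  have hz2 : z ^ 2 = 1 := hz ▸ pow_orderOf_eq_one z
  have hw2' : w ^ 2 = 1 := hw2 ▸ pow_orderOf_eq_one w
  set A := Subgroup.closure ({z, w} : Set G) with hA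
  haveI hcomm : IsMulCommutative A := Subgroup.isMulCommutative_closure (by
    simp only [Set.mem_insert_iff, Set.mem_singleton_iff]
    rintro a (rfl | rfl) b (rfl | rfl)
    exacts [rfl, hg.eq, hg.symm.eq, rfl])
  have h2 : ∀ a ∈ A, a ^ 2 = 1 := by
    intro a ha
    induction ha using Subgroup.closure_induction with
    | mem x hx => rcases hx with rfl | rfl <;> assumption
    | one => exact one_pow 2
    | mul x y hx hy hx' hy' =>
      have : Commute x y := congrArg Subtype.val (hcomm.is_comm.comm ⟨x, hx⟩ ⟨y, hy⟩)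
      rw [this.mul_pow, hx', hy', one_mul]
    | inv x _ hx' => rw [inv_pow, hx', inv_one]
  have hcard := h1 A hcomm h2
  haveI := Fintype.ofFinite A
  rw [Nat.card_eq_fintype_card, pow_one] at hcard
  have h3 : 2 < Fintype.card A := Fintype.two_lt_card_iff.2
    ⟨1, ⟨z, Subgroup.subset_closure (by simp)⟩, ⟨w, Subgroup.subset_closure (by simp)⟩,
      fun e => by
        have e' : z = 1 := (congrArg Subtype.val e).symm
        rw [e', orderOf_one] at hz; omega,
      fun e => by
        have e' : w = 1 := (congrArg Subtype.val e).symm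
        rw [e', orderOf_one] at hw2; omega,
      fun e => hne (congrArg Subtype.val e).symm⟩
  omega

theorem index_ne_two (hG : ¬ IsMulCommutative G) (H : Subgroup G) : H.index ≠ 2 := by
  intro h
  haveI := Subgroup.normal_of_index_eq_two h
  rcases (inferInstance : H.Normal).eq_bot_or_eq_top with hb | hb
  · rw [hb, Subgroup.index_bot] at h
    haveI : Fact (Nat.Prime 2) := ⟨Nat.prime_two⟩
    haveI := isCyclic_of_prime_card (p := 2) h
    exact hG IsCyclic.commutative
  · rw [hb, Subgroup.index_top] at h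
    omega

theorem no_homocyclic (hG : ¬ IsMulCommutative G) (P : Sylow 2 G) (n : ℕ) (hn : 2 ≤ n)
    (e : (P : Subgroup G) ≃* Multiplicative (ZMod (2 ^ n) × ZMod (2 ^ n))) : False := by
  obtain ⟨hN, -, hidx⟩ := Cfsg.Agent.S0949.result P n hn e fun N hN hodd => by
    rcases hN.eq_bot_or_eq_top with h | h
    · exact h
    · exfalso
      rw [h, Subgroup.card_top] at hodd
      exact (Nat.not_even_iff_odd.2 hodd) (even_iff_two_dvd.2 (even_card hG))
  haveI := hN
  have hcard : Nat.card (P : Subgroup G) = 2 ^ n * 2 ^ n := by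
    rw [Nat.card_congr e.toEquiv, Nat.card_congr Multiplicative.toAdd, Nat.card_prod, Nat.card_zmod]
  rcases hN.eq_bot_or_eq_top with h | h
  · rw [h, Subgroup.card_bot] at hcard
    have : 2 ≤ 2 ^ n := Nat.le_self_pow (by omega) 2
    nlinarith
  · refine hG ⟨⟨fun a b => ?_⟩⟩
    have hc : (⟨a, h ▸ Subgroup.mem_top a⟩ : (P : Subgroup G)) * ⟨b, h ▸ Subgroup.mem_top b⟩ =
        ⟨b, h ▸ Subgroup.mem_top b⟩ * ⟨a, h ▸ Subgroup.mem_top a⟩ :=
      e.injective (by rw [map_mul, map_mul, mul_comm])
    exact congrArg Subtype.val hc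

end CfsgLib.GWApps.RankTwoSimple
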