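import Cfsg.Agent.Lib.GWApps.Basic
import Cfsg.Agent.Lib.GW.Proper
import Mathlib.LinearAlgebra.Matrix.GeneralLinearGroup.Projective

/-!
Nonsolvable groups with dihedral Sylow 2-subgroups, trivial odd core and generated by involutions.
-/

set_option autoImplicit false
open Cfsg

namespace CfsgLib.GWApps.GenDihedral

open CfsgLib.ReflectionsSpinor.PSL

universe u

/-- An automorphism induced by an element is inner only for the elements of the normal subgroup. -/
theorem mem_of_conjNormal_eq {R : Type u} [Group R] {N : Subgroup R} [N.Normal]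
    (hC : Subgroup.centralizer (N : Set R) = ⊥) {P : Type*} [Group P] (e : N ≃* P) {r : R} {a : P}
    (h : MulAut.congr e (MulAut.conjNormal r) = MulAut.conj a) : r ∈ N := by
  have key : ∀ y : N, r * (y : R) * r⁻¹ = ((e.symm a : N) : R) * y * ((e.symm a : N) : R)⁻¹ := by
    intro y
    have h1 := DFunLike.congr_fun h (e y)
    have h2 : e (MulAut.conjNormal r y) = e (e.symm a * y * (e.symm a)⁻¹) := by
      rw [map_mul, map_mul, map_inv, e.apply_symm_apply, ← MulAut.conj_apply, ← h1]
      show _ = e (MulAut.conjNormal r (e.symm (e y)))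
      rw [e.symm_apply_apply]
    simpa using congrArg Subtype.val (e.injective h2)
  have hc : ((e.symm a : N) : R)⁻¹ * r ∈ Subgroup.centralizer (N : Set R) := by
    rw [Subgroup.mem_centralizer_iff]
    intro y hy
    have h1 : r * y * r⁻¹ = _ := key ⟨y, hy⟩
    rw [mul_inv_eq_iff_eq_mul] at h1
    rw [mul_assoc, h1]
    group
  rw [hC, Subgroup.mem_bot, inv_mul_eq_one] at hc
  exact hc ▸ (e.symm a).2

theorem congr_conjNormal_of_mem {R : Type u} [Group R] {N : Subgroup R} [N.Normal] {P : Type*}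
    [Group P] (e : N ≃* P) (a : P) :
    MulAut.congr e (MulAut.conjNormal ((e.symm a : N) : R)) = MulAut.conj a := by
  refine MulEquiv.ext fun y => ?_
  show e (MulAut.conjNormal ((e.symm a : N) : R) (e.symm y)) = _
  rw [show MulAut.conjNormal ((e.symm a : N) : R) (e.symm y) =
    (e.symm a) * (e.symm y) * (e.symm a)⁻¹ from Subtype.ext (MulAut.conjNormal_apply _ _)]
  simp

/-- The groups in question are `A₇`, `PSL₂(q)` and `PGL₂(q)`. -/
theorem classify (hGW : DihedralPerfect.{u}) {R : Type u} [Group R] [Finite R]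
    (hd : GW.HasDihedralSylow R) (hO : Cfsg.oddCore R = ⊥) (hns : ¬ Group.IsSolvable R)
    (hgen : ∀ K : Subgroup R, (∀ x : R, orderOf x = 2 → x ∈ K) → K = ⊤) :
    Nonempty (R ≃* alternatingGroup (Fin 7)) ∨
      ∃ (F : Type) (_ : Field F) (_ : Fintype F), 3 < Fintype.card F ∧
        (Nonempty (R ≃* Matrix.ProjectiveSpecialLinearGroup (Fin 2) F) ∨
          Nonempty (R ≃* Matrix.ProjGenLinGroup (Fin 2) F)) := by
  have hC := centralizer_perfectCore_eq_bot hd hO hns
  have hgw := perfectCore_gw hGW hd hO hns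
  set N := perfectCore R with hN
  have hf₀ : Function.Injective (MulAut.conjNormal (H := N) (G := R)) := by
    rw [injective_iff_map_eq_one]
    intro q hq
    have : q ∈ Subgroup.centralizer (N : Set R) := by
      rw [Subgroup.mem_centralizer_iff]
      intro a ha
      have h := congrArg Subtype.val (DFunLike.congr_fun hq ⟨a, ha⟩)
      rw [MulAut.conjNormal_apply] at h
      exact (mul_inv_eq_iff_eq_mul.1 h).symm
    rwa [hC, Subgroup.mem_bot] at this
  rcases hgw with ⟨F, iF, iT, hodd, h3, ⟨e⟩⟩ | ⟨⟨e⟩⟩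
  swap
  · left
    let f := (MulAut.congr e).toMonoidHom.comp (MulAut.conjNormal (H := N) (G := R))
    have hf : Function.Injective f := (MulAut.congr e).injective.comp hf₀
    have hle : (MulAut.conj (G := alternatingGroup (Fin 7))).range ≤ f.range := by
      rintro _ ⟨a, rfl⟩
      exact ⟨_, congr_conjNormal_of_mem e a⟩
    have hr := GW.range_eq_of_alt7 f hf hle hd
    have htop : N = ⊤ := eq_top_iff.2 fun r _ => by
      obtain ⟨a, ha⟩ := (hr ▸ ⟨r, rfl⟩ : f r ∈ (MulAut.conj (G := alternatingGroup (Fin 7))).range)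
      exact mem_of_conjNormal_eq hC e ha.symm
    exact ⟨(Subgroup.topEquiv.symm.trans (MulEquiv.subgroupCongr htop.symm)).trans e⟩
  right
  refine ⟨F, iF, iT, h3, ?_⟩
  have h2F : (2 : F) ≠ 0 := Ring.two_ne_zero fun h => by
    have := (FiniteField.even_card_iff_char_two (F := F)).1 h
    rw [Nat.odd_iff] at hodd
    omega
  let f := (MulAut.congr e).toMonoidHom.comp (MulAut.conjNormal (H := N) (G := R))
  have hf : Function.Injective f := (MulAut.congr e).injective.comp hf₀
  have hI : GW.PGLTwo.innG F ≤ f.range := by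
    rintro _ ⟨a, rfl⟩
    exact ⟨_, congr_conjNormal_of_mem e a⟩
  let E : R ≃* f.range := MonoidHom.ofInjective hf
  have hdr : GW.HasDihedralSylow f.range := by
    haveI : Fact (Nat.Prime 2) := ⟨Nat.prime_two⟩
    obtain ⟨S, m, hm, ⟨eS⟩⟩ := hd
    refine ⟨S.mapSurjective (f := E.toMonoidHom) E.surjective, m, hm, ⟨?_⟩⟩
    exact ((MulEquiv.subgroupCongr (Sylow.coe_mapSurjective E.surjective S)).trans
      ((S : Subgroup R).equivMapOfInjective E.toMonoidHom E.injective).symm).trans eS
  have hoddF := GW.PGLTwo.odd_card_fieldPart h2F f.range hI hdr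
  -- involutions are linear
  have hKtop : ((toAutHom (n := 2) (F := F)).range).comap f = ⊤ := by
    refine hgen _ fun x hx => ?_
    rw [Subgroup.mem_comap, ← GW.PGLTwo.fieldPart_eq_one_iff]
    have hmem : GW.PGLTwo.fieldPart (f x) ∈ f.range.map GW.PGLTwo.fieldPart := ⟨_, ⟨x, rfl⟩, rfl⟩
    have h1 : orderOf (GW.PGLTwo.fieldPart (f x)) ∣ 2 := by
      refine ((orderOf_map_dvd GW.PGLTwo.fieldPart _).trans (orderOf_map_dvd f x)).trans ?_
      rw [hx]
    have h4 : orderOf (GW.PGLTwo.fieldPart (f x)) ∣ Nat.card (f.range.map GW.PGLTwo.fieldPart) :=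
      Subgroup.orderOf_dvd_natCard _ hmem
    rw [← orderOf_eq_one_iff]
    exact Nat.eq_one_of_dvd_coprimes (Nat.coprime_two_left.2 hoddF) h1 h4
  by_cases hout : ∃ g : GL (Fin 2) F,
      toAutHom (n := 2) g ∈ f.range ∧ ¬ IsSquare (g : Matrix (Fin 2) (Fin 2) F).det
  · right
    obtain ⟨g₁, hg₁, hns₁⟩ := hout
    have hR : f.range = (toAutHom (n := 2) (F := F)).range := by
      refine le_antisymm ?_ ?_
      · rintro _ ⟨r, rfl⟩
        exact (hKtop ▸ Subgroup.mem_top r : r ∈ ((toAutHom (n := 2) (F := F)).range).comap f)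
      rintro _ ⟨k, rfl⟩
      by_cases hs : IsSquare (k : Matrix (Fin 2) (Fin 2) F).det
      · exact hI (GW.PGLTwo.A_mem_inn_iff.2 hs)
      · have h1 : toAutHom (n := 2) (k * g₁) ∈ f.range := hI (GW.PGLTwo.A_mem_inn_iff.2 (by
          rw [Units.val_mul, Matrix.det_mul,
            GW.PGLTwo.isSquare_mul_iff (GW.PGLTwo.det_ne_zero _) (GW.PGLTwo.det_ne_zero _)]
          exact ⟨fun a => absurd a hs, fun a => absurd a hns₁⟩))
        rw [map_mul] at h1
        exact (Subgroup.mul_mem_cancel_right _ hg₁).1 h1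
    exact ⟨E.trans ((MulEquiv.subgroupCongr hR).trans
      ((QuotientGroup.quotientKerEquivRange (toAutHom (n := 2) (F := F))).symm.trans
        (QuotientGroup.quotientMulEquivOfEq (toAutHom_ker (n := 2) le_rfl))))⟩
  · left
    push Not at hout
    have htop : N = ⊤ := eq_top_iff.2 fun r _ => by
      obtain ⟨g, hg⟩ := (hKtop ▸ Subgroup.mem_top r :
        r ∈ ((toAutHom (n := 2) (F := F)).range).comap f)
      obtain ⟨a, ha⟩ := GW.PGLTwo.A_mem_inn_iff.2 (hout g ⟨r, hg.symm⟩)
      exact mem_of_conjNormal_eq hC e (hg.symm.trans ha.symm)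
    exact ⟨(Subgroup.topEquiv.symm.trans (MulEquiv.subgroupCongr htop.symm)).trans e⟩

end CfsgLib.GWApps.GenDihedral
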