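import Cfsg.Agent.Lib.GWApps.GenDihedralBasic
import Cfsg.Agent.Lib.GWApps.GenDihedralPSL
import Cfsg.Agent.Lib.TwoGroups.Aut
import Mathlib.GroupTheory.Perm.Cycle.Type

/-!
A generalized dihedral centralizer with one involution in its abelian half, seen modulo an odd
normal subgroup: the quotient is generated by involutions and is not `A₇`.
-/

set_option autoImplicit false
open Cfsg

namespace CfsgLib.GWApps.GenDihedral

universe u

/-- In a group with dihedral Sylow 2-subgroups, every element of such a subgroup is a product of two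
elements of square one. -/
theorem dihedral_two_factors {n : ℕ} (x : DihedralGroup n) :
    ∃ a b : DihedralGroup n, a * a = 1 ∧ b * b = 1 ∧ x = a * b := by
  cases x with
  | r i => exact ⟨.sr 0, .sr i, by rw [DihedralGroup.sr_mul_sr, sub_self]; rfl,
      by rw [DihedralGroup.sr_mul_sr, sub_self]; rfl, by rw [DihedralGroup.sr_mul_sr, sub_zero]⟩
  | sr i => exact ⟨.sr i, 1, by rw [DihedralGroup.sr_mul_sr, sub_self]; rfl, one_mul 1,
      (mul_one _).symm⟩

theorem alt7_commuting (s : alternatingGroup (Fin 7)) (hs : orderOf s = 2) :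
    ∃ r t : alternatingGroup (Fin 7), r * s = s * r ∧ t * s = s * t ∧ r * t = t * r ∧
      orderOf r = 3 ∧ t * t = 1 ∧ t ≠ 1 ∧ t ≠ s := by
  haveI : Fact (Nat.Prime 3) := ⟨Nat.prime_three⟩
  set σ : Equiv.Perm (Fin 7) := (s : Equiv.Perm (Fin 7)) with hσ
  have hso : orderOf σ = 2 := by rw [hσ, Subgroup.orderOf_coe, hs]
  obtain ⟨n, hn⟩ := Equiv.Perm.cycleType_prime_order (σ := σ) (by rw [hso]; exact Nat.prime_two)
  rw [hso] at hn
  have hsum : (σ.cycleType).sum ≤ 7 := by
    rw [Equiv.Perm.sum_cycleType]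
    exact (Finset.card_le_univ _).trans_eq (by simp)
  rw [hn, Multiset.sum_replicate, smul_eq_mul] at hsum
  have hsign : Equiv.Perm.sign σ = 1 := Equiv.Perm.mem_alternatingGroup.1 s.2
  rw [Equiv.Perm.sign_of_cycleType, hn, Multiset.sum_replicate, Multiset.card_replicate,
    smul_eq_mul] at hsign
  have hn1 : n = 1 := by
    rcases n with _ | _ | _ | n
    · exact absurd hsign (by decide)
    · rfl
    · exact absurd hsign (by decide)
    · omega
  subst hn1
  obtain ⟨c, hc⟩ := isConj_iff.1 ((Equiv.Perm.isConj_iff_cycleType_eq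
    (σ := Equiv.swap (0 : Fin 7) 2 * Equiv.swap 1 3) (τ := σ)).2 (by rw [hn]; decide))
  let f : alternatingGroup (Fin 7) ≃* alternatingGroup (Fin 7) := MulAut.conjNormal c
  have hfs : f ⟨Equiv.swap 0 2 * Equiv.swap 1 3, Equiv.Perm.mem_alternatingGroup.2 (by decide)⟩ = s :=
    Subtype.ext ((MulAut.conjNormal_apply _ _).trans hc)
  refine ⟨f ⟨Equiv.swap 4 5 * Equiv.swap 5 6, Equiv.Perm.mem_alternatingGroup.2 (by decide)⟩,
    f ⟨Equiv.swap 0 1 * Equiv.swap 2 3, Equiv.Perm.mem_alternatingGroup.2 (by decide)⟩, ?_, ?_, ?_, ?_, ?_, ?_, ?_⟩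
  · rw [← hfs, ← map_mul, ← map_mul]; congr 1; decide
  · rw [← hfs, ← map_mul, ← map_mul]; congr 1; decide
  · rw [← map_mul, ← map_mul]; congr 1; decide
  · rw [MulEquiv.orderOf_eq]
    exact orderOf_eq_prime (by decide) (by decide)
  · rw [← map_mul, ← map_one f]; congr 1; decide
  · rw [← map_one f]
    exact fun h => absurd (f.injective h) (by decide)
  · rw [← hfs]
    exact fun h => absurd (f.injective h) (by decide)

variable {G : Type u} [Group G] [Finite G]

namespace Hyp

variable {H A : Subgroup G} (h : Hyp H A) {j : G} (hj : j ∈ A) (hjo : orderOf j = 2)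
  (hu : ∀ a ∈ A, orderOf a = 2 → a = j) (O : Subgroup G) [O.Normal] (hO : Odd (Nat.card O))
include h hj hjo hu hO

omit [O.Normal] hO in
theorem eq_one_or_eq {a : G} (ha : a ∈ A) (ha2 : a * a = 1) : a = 1 ∨ a = j := by
  by_cases h1 : a = 1
  · exact Or.inl h1
  · exact Or.inr (hu a ha (orderOf_two ha2 h1))

omit [Finite G] h hj hu in
theorem mk_ne_one : (j : G ⧸ O) ≠ 1 := by
  intro hc
  have h1 : orderOf j ∣ Nat.card O := Subgroup.orderOf_dvd_natCard _ ((QuotientGroup.eq_one_iff j).1 hc)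
  rw [hjo] at h1
  exact (Nat.not_even_iff_odd.2 hO) (even_iff_two_dvd.2 h1)

/-- Elements of square one in the image of `A`. -/
theorem mk_sq_cases {a : G} (ha : a ∈ A) (ha2 : (a : G ⧸ O) * a = 1) :
    (a : G ⧸ O) = 1 ∨ (a : G ⧸ O) = j := by
  rw [← QuotientGroup.mk_mul, QuotientGroup.eq_one_iff] at ha2
  obtain ⟨k, hk⟩ : Odd (orderOf (a * a)) :=
    hO.of_dvd_nat (Subgroup.orderOf_dvd_natCard _ ha2)
  have h1 : a ^ (2 * k + 1) * a ^ (2 * k + 1) = 1 := by
    rw [← (Commute.refl a).mul_pow, ← hk, pow_orderOf_eq_one]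
  have h2 : ((a ^ (2 * k + 1) : G) : G ⧸ O) = (a : G ⧸ O) := by
    rw [QuotientGroup.mk_pow, pow_succ, pow_mul, pow_two, ← QuotientGroup.mk_mul,
      (QuotientGroup.eq_one_iff _).2 ha2, one_pow, one_mul]
  rcases h.eq_one_or_eq hj hjo hu (pow_mem ha _) h1 with e | e <;> rw [e] at h2
  · exact Or.inl h2.symm
  · exact Or.inr h2.symm

omit hu in
/-- The centralizer of the image of `j` is the image of `H`. -/
theorem cent_mk :
    Subgroup.centralizer ({(j : G ⧸ O)} : Set (G ⧸ O)) = H.map (QuotientGroup.mk' O) := by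
  have hjj : j * j = 1 := by rw [← pow_two, ← hjo, pow_orderOf_eq_one]
  have hjc : Subgroup.centralizer ({j} : Set G) = H :=
    h.cent hj hjj fun hc => by rw [hc, orderOf_one] at hjo; omega
  refine le_antisymm (fun q hq => ?_) ?_
  · obtain ⟨g, rfl⟩ := QuotientGroup.mk'_surjective O q
    rw [Subgroup.mem_centralizer_singleton_iff, QuotientGroup.mk'_apply] at hq
    have hg : g * j * g⁻¹ * j ∈ O := by
      rw [← QuotientGroup.eq_one_iff, QuotientGroup.mk_mul, QuotientGroup.mk_mul,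
        QuotientGroup.mk_mul, QuotientGroup.mk_inv, hq, mul_inv_cancel_right, ← QuotientGroup.mk_mul,
        hjj, QuotientGroup.mk_one]
    obtain ⟨r, hr, hrg⟩ := exists_centralizing_mul hO hjo hg
    refine ⟨r⁻¹ * g, hjc ▸ hrg, ?_⟩
    rw [QuotientGroup.mk'_apply, QuotientGroup.mk'_apply, QuotientGroup.mk_mul,
      (QuotientGroup.eq_one_iff _).2 (inv_mem hr), one_mul]
  · rintro _ ⟨x, hx, rfl⟩
    rw [Subgroup.mem_centralizer_singleton_iff, QuotientGroup.mk'_apply, ← QuotientGroup.mk_mul,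
      ← QuotientGroup.mk_mul, h.central hj hjj x hx]

/-- The image of `j` does not centralize a group of order three times an involution. -/
theorem not_three_two {r t : G ⧸ O} (hr : r * j = j * r) (ht : t * j = j * t) (hrt : r * t = t * r)
    (hr3 : orderOf r = 3) (ht2 : t * t = 1) (ht1 : t ≠ 1) : t = j := by
  have hC := h.cent_mk hj hjo O hO
  obtain ⟨x, hx, rfl⟩ : r ∈ H.map (QuotientGroup.mk' O) := by
    rw [← hC, Subgroup.mem_centralizer_singleton_iff]; exact hr
  obtain ⟨y, hy, rfl⟩ : t ∈ H.map (QuotientGroup.mk' O) := by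
    rw [← hC, Subgroup.mem_centralizer_singleton_iff]; exact ht
  simp only [QuotientGroup.mk'_apply] at *
  have hxA : x ∈ A := by
    by_contra hxA
    have : orderOf (x : G ⧸ O) ∣ 2 := orderOf_dvd_of_pow_eq_one (by
      rw [pow_two, ← QuotientGroup.mk_mul, h.hD x hx hxA, QuotientGroup.mk_one])
    rw [hr3] at this
    omega
  by_cases hyA : y ∈ A
  · exact (h.mk_sq_cases hj hjo hu O hO hyA ht2).resolve_left ht1
  · exfalso
    have h1 : (y : G ⧸ O) * x * y = (x : G ⧸ O)⁻¹ := by
      rw [← QuotientGroup.mk_mul, ← QuotientGroup.mk_mul, h.inverts hy hyA hxA, QuotientGroup.mk_inv]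
    rw [mul_assoc, hrt, ← mul_assoc, ht2, one_mul] at h1
    have h2 : orderOf (x : G ⧸ O) ∣ 2 := orderOf_dvd_of_pow_eq_one (by
      rw [pow_two]; exact eq_inv_iff_mul_eq_one.1 h1)
    rw [hr3] at h2
    omega

/-- With dihedral Sylow 2-subgroups the quotient is generated by its involutions. -/
theorem gen_involutions (hns : ¬ Group.IsSolvable (G ⧸ O)) (hOO : Cfsg.oddCore (G ⧸ O) = ⊥)
    (T : Sylow 2 (G ⧸ O)) (hjT : (j : G ⧸ O) ∈ (T : Subgroup (G ⧸ O))) {n : ℕ} (hn : 2 ≤ n)
    (e : (T : Subgroup (G ⧸ O)) ≃* DihedralGroup n)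
    (K : Subgroup (G ⧸ O)) (hK : ∀ x : G ⧸ O, orderOf x = 2 → x ∈ K) : K = ⊤ := by
  classical
  haveI : Fact (Nat.Prime 2) := ⟨Nat.prime_two⟩
  haveI : NeZero n := ⟨by omega⟩
  set M := Subgroup.closure {x : G ⧸ O | x * x = 1} with hM
  have hMK : M ≤ K := (Subgroup.closure_le _).2 fun x hx => by
    by_cases h1 : x = 1
    · rw [h1]; exact one_mem _
    · exact hK x (orderOf_two hx h1)
  refine eq_top_iff.2 (le_trans ?_ hMK)
  haveI hMn : M.Normal := ⟨fun a ha g => by
    have hle : M.map (MulAut.conj g).toMonoidHom ≤ M := by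
      rw [hM, MonoidHom.map_closure, Subgroup.closure_le]
      rintro _ ⟨b, hb, rfl⟩
      refine Subgroup.subset_closure ?_
      show MulAut.conj g b * MulAut.conj g b = 1
      rw [← map_mul, (hb : b * b = 1), map_one]
    exact hle ⟨a, ha, rfl⟩⟩
  have hTM : (T : Subgroup (G ⧸ O)) ≤ M := by
    intro x hx
    obtain ⟨a, b, ha, hb, hab⟩ := dihedral_two_factors (e ⟨x, hx⟩)
    have hmem : ∀ a : DihedralGroup n, a * a = 1 →
        ((e.symm a : (T : Subgroup (G ⧸ O))) : G ⧸ O) ∈ M := fun a ha => Subgroup.subset_closure (by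
      show _ * _ = (1 : G ⧸ O)
      rw [← Subgroup.coe_mul, ← map_mul, ha, map_one, Subgroup.coe_one])
    have hxe : x = ((e.symm a * e.symm b : (T : Subgroup (G ⧸ O))) : G ⧸ O) := by
      rw [← map_mul, ← hab, e.symm_apply_apply]
    rw [hxe]
    exact mul_mem (hmem a ha) (hmem b hb)
  have hHM : Subgroup.centralizer ({(j : G ⧸ O)} : Set (G ⧸ O)) ≤ M := by
    rw [h.cent_mk hj hjo O hO]
    rintro _ ⟨x, hx, rfl⟩
    have hout : ∀ w ∈ H, w ∉ A → (w : G ⧸ O) ∈ M := fun w hw hwA => Subgroup.subset_closure (by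
      show (w : G ⧸ O) * w = 1
      rw [← QuotientGroup.mk_mul, h.hD w hw hwA, QuotientGroup.mk_one])
    by_cases hxA : x ∈ A
    · obtain ⟨w, hw, hwA⟩ := h.exists_outside
      rw [show x = w * (w * x) by rw [← mul_assoc, h.hD w hw hwA, one_mul], map_mul]
      exact mul_mem (hout w hw hwA) (hout _ (mul_mem hw hx)
        ((Subgroup.mul_mem_cancel_right A hxA).not.2 hwA))
    · exact hout x hx hxA
  suffices hNM : Subgroup.normalizer ((T : Subgroup (G ⧸ O)) : Set (G ⧸ O)) ≤ M by
    rw [← Sylow.normalizer_sup_eq_top' T hTM]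
    exact sup_le hNM le_rfl
  set NT := Subgroup.normalizer ((T : Subgroup (G ⧸ O)) : Set (G ⧸ O))
  let φ := (T : Subgroup (G ⧸ O)).normalizerMonoidHom
  have hker : ∀ g : NT, φ g = 1 → (g : G ⧸ O) ∈ M := by
    intro g hg
    have h1 : g ∈ φ.ker := MonoidHom.mem_ker.2 hg
    rw [Subgroup.normalizerMonoidHom_ker, Subgroup.mem_subgroupOf] at h1
    refine hHM ?_
    rw [Subgroup.mem_centralizer_singleton_iff]
    exact (Subgroup.mem_centralizer_iff.1 h1 _ hjT).symm
  have hidx : Odd M.index := Nat.not_even_iff_odd.1 fun he =>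
    T.not_dvd_index ((even_iff_two_dvd.1 he).trans (Subgroup.index_dvd_of_le hTM))
  obtain ⟨m, hm⟩ := IsPGroup.iff_card.1 T.isPGroup'
  rw [Nat.card_congr e.toEquiv, DihedralGroup.nat_card] at hm
  obtain ⟨k, rfl⟩ : ∃ k, m = k + 1 := ⟨m - 1, by
    rcases m with _ | m
    · simp at hm
    · simp⟩
  have hnk : n = 2 ^ k := by rw [pow_succ'] at hm; omega
  subst hnk
  intro g hg
  by_cases hk2 : 2 ≤ k
  · have hP := CfsgLib.TwoGroups.isPGroup_mulAut_congr e.symm
      (CfsgLib.TwoGroups.isPGroup_mulAut_dihedral hk2)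
    obtain ⟨l, hl⟩ := hP (φ ⟨g, hg⟩)
    have h1 : g ^ 2 ^ l ∈ M := by
      exact hker (⟨g, hg⟩ ^ 2 ^ l) (by rw [map_pow]; exact hl)
    have h2 : orderOf (QuotientGroup.mk' M g) ∣ 2 ^ l := orderOf_dvd_of_pow_eq_one (by
      rw [← map_pow]; exact (QuotientGroup.eq_one_iff _).2 h1)
    have h3 : orderOf (QuotientGroup.mk' M g) ∣ M.index := by
      rw [Subgroup.index_eq_card]; exact orderOf_dvd_natCard _
    have h4 := Nat.eq_one_of_dvd_coprimes (Nat.Coprime.pow_left l (Nat.coprime_two_left.2 hidx)) h2 h3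
    exact (QuotientGroup.eq_one_iff g).1 (orderOf_eq_one_iff.1 h4)
  -- four-group
  obtain rfl : k = 1 := by
    rcases k with _ | _ | k
    · simp at hn
    · rfl
    · omega
  have hT4 : Nat.card (T : Subgroup (G ⧸ O)) = 4 := by
    rw [Nat.card_congr e.toEquiv, DihedralGroup.nat_card]; norm_num
  have hcomm : ∀ x y : (T : Subgroup (G ⧸ O)), x * y = y * x := fun x y => e.injective (by
    rw [map_mul, map_mul]
    generalize e x = d
    generalize e y = d'
    revert d d'; decide)
  let P3 := {x : (T : Subgroup (G ⧸ O)) // x ≠ 1}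
  have hP3 : Nat.card P3 = 3 := by
    haveI := Fintype.ofFinite (T : Subgroup (G ⧸ O))
    rw [Nat.card_eq_fintype_card, Fintype.card_subtype_compl, Fintype.card_subtype_eq,
      ← Nat.card_eq_fintype_card, hT4]
  let ρ : MulAut (T : Subgroup (G ⧸ O)) →* Equiv.Perm P3 :=
    { toFun := fun α => α.toEquiv.subtypeEquiv fun x => not_congr (map_eq_one_iff α α.injective).symm
      map_one' := Equiv.ext fun x => rfl
      map_mul' := fun α β => Equiv.ext fun x => rfl }
  have hρ : Function.Injective ρ := by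
    intro α β hab
    refine MulEquiv.ext fun x => ?_
    by_cases hx : x = 1
    · simp [hx]
    · exact congrArg Subtype.val (DFunLike.congr_fun hab (⟨x, hx⟩ : P3))
  have h6 : Nat.card φ.range ∣ 6 := by
    have h1 := Subgroup.card_dvd_of_injective ρ hρ
    rw [Nat.card_perm, hP3] at h1
    exact (Subgroup.card_subgroup_dvd_card _).trans h1
  have hodd : ¬ 2 ∣ Nat.card φ.range := by
    rw [← Subgroup.index_ker]
    intro hd
    have hle : (T : Subgroup (G ⧸ O)).subgroupOf NT ≤ φ.ker := by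
      intro x hx
      rw [Subgroup.normalizerMonoidHom_ker, Subgroup.mem_subgroupOf, Subgroup.mem_centralizer_iff]
      intro y hy
      exact congrArg Subtype.val (hcomm ⟨y, hy⟩ ⟨(x : G ⧸ O), Subgroup.mem_subgroupOf.1 hx⟩)
    have h1 : φ.ker.index ∣ (T : Subgroup (G ⧸ O)).relIndex NT := Subgroup.index_dvd_of_le hle
    exact T.not_dvd_index ((hd.trans h1).trans
      (Subgroup.relIndex_dvd_index_of_le Subgroup.le_normalizer))
  have h3 : Nat.card φ.range ∣ 3 := by
    have : Nat.card φ.range ∈ Nat.divisors 6 := Nat.mem_divisors.2 ⟨h6, by norm_num⟩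
    rw [show Nat.divisors 6 = {1, 2, 3, 6} by decide] at this
    simp only [Finset.mem_insert, Finset.mem_singleton] at this
    rcases this with h | h | h | h <;> rw [h] at hodd ⊢ <;> omega
  -- an element of `M` moving the four-group
  obtain ⟨a, haM, ha⟩ : ∃ a : NT, (a : G ⧸ O) ∈ M ∧ φ a ≠ 1 := by
    by_contra hcon
    push Not at hcon
    have hN' : Subgroup.normalizer ((T.subtype hTM : Subgroup M) : Set M) ≤
        Subgroup.centralizer ((T.subtype hTM : Subgroup M) : Set M) := by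
      intro a ha
      have haN : (a : G ⧸ O) ∈ NT := by
        refine Subgroup.mem_normalizer_iff.2 fun y => ?_
        have hh := Subgroup.mem_normalizer_iff.1 ha
        constructor
        · exact fun hy => Subgroup.mem_subgroupOf.1 ((hh ⟨y, hTM hy⟩).1 hy)
        · intro hy
          have hyM : y ∈ M := by
            have := mul_mem (mul_mem (inv_mem a.2) (hTM hy)) a.2
            rwa [show (a : G ⧸ O)⁻¹ * ((a : G ⧸ O) * y * (a : G ⧸ O)⁻¹) * (a : G ⧸ O) = y by group]
              at this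
          exact (hh ⟨y, hyM⟩).2 hy
      have h1 := MonoidHom.mem_ker.2 (hcon ⟨a, haN⟩ a.2)
      rw [Subgroup.normalizerMonoidHom_ker, Subgroup.mem_subgroupOf] at h1
      exact Subgroup.mem_centralizer_iff.2 fun b hb =>
        Subtype.ext (Subgroup.mem_centralizer_iff.1 h1 _ hb)
    have hcompl := MonoidHom.ker_transferSylow_isComplement' (T.subtype hTM) hN'
    have hK0 : (MonoidHom.transferSylow (T.subtype hTM) hN').ker = ⊥ := by
      have h1 : (MonoidHom.transferSylow (T.subtype hTM) hN').ker ≤ Cfsg.pPrimeCore 2 M :=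
        CfsgLib.Cores.le_pPrimeCore_of_not_dvd Nat.prime_two
          (MonoidHom.not_dvd_card_ker_transferSylow (T.subtype hTM) hN')
      have h2 := CfsgLib.Cores.map_subtype_pPrimeCore_le (p := 2)
        (Subgroup.Normal.isSubnormal (inferInstance : M.Normal))
      rw [show Cfsg.pPrimeCore 2 (G ⧸ O) = ⊥ from hOO, le_bot_iff,
        Subgroup.map_eq_bot_iff_of_injective _ M.subtype_injective] at h2
      exact le_bot_iff.1 (h2 ▸ h1)
    rw [hK0, Subgroup.isComplement'_bot_left] at hcompl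
    have hMT : M ≤ (T : Subgroup (G ⧸ O)) := fun x hx =>
      Subgroup.mem_subgroupOf.1 (hcompl ▸ Subgroup.mem_top (⟨x, hx⟩ : M))
    have hMp : IsPGroup 2 M := T.isPGroup'.to_le hMT
    haveI := hMp.isNilpotent
    have hoddq : Odd (Nat.card ((G ⧸ O) ⧸ M)) := by rw [← Subgroup.index_eq_card]; exact hidx
    haveI := Cfsg.Agent.S0205.result hoddq
    exact hns (solvable_of_ker_le_range M.subtype (QuotientGroup.mk' M)
      (by rw [QuotientGroup.ker_mk', Subgroup.range_subtype]))
  rcases (Nat.dvd_prime Nat.prime_three).1 h3 with h1 | h1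
  · rw [Subgroup.card_eq_one] at h1
    exact absurd (Subgroup.mem_bot.1 (h1 ▸ ⟨a, rfl⟩ : φ a ∈ (⊥ : Subgroup _))) ha
  haveI : Fact (Nat.Prime 3) := ⟨Nat.prime_three⟩
  have hz : (⟨φ ⟨g, hg⟩, ⟨_, rfl⟩⟩ : φ.range) ∈ Subgroup.zpowers (⟨φ a, ⟨a, rfl⟩⟩ : φ.range) :=
    mem_zpowers_of_prime_card h1 fun hc => ha (congrArg Subtype.val hc)
  obtain ⟨i, hi⟩ := Subgroup.mem_zpowers_iff.1 hz
  have hgi : φ ((a ^ i)⁻¹ * ⟨g, hg⟩) = 1 := by
    rw [map_mul, map_inv, map_zpow, inv_mul_eq_one]
    simpa using congrArg Subtype.val hi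
  have := mul_mem (zpow_mem haM i) (hker _ hgi)
  simpa using this

/-- The quotient is not the alternating group of degree seven. -/
theorem not_alt7 (eR : G ⧸ O ≃* alternatingGroup (Fin 7)) : False := by
  have hj2 : orderOf (j : G ⧸ O) = 2 := orderOf_two (by
    rw [← QuotientGroup.mk_mul, ← pow_two, ← hjo, pow_orderOf_eq_one, QuotientGroup.mk_one])
    (mk_ne_one hjo O hO)
  obtain ⟨r, t, h1, h2, h3, h4, h5, h6, h7⟩ :=
    alt7_commuting (eR j) (by rw [MulEquiv.orderOf_eq, hj2])
  refine h7 ?_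
  have := h.not_three_two hj hjo hu O hO (r := eR.symm r) (t := eR.symm t)
    (eR.injective (by simpa using h1)) (eR.injective (by simpa using h2))
    (eR.injective (by simpa using h3)) (by rw [MulEquiv.orderOf_eq, h4])
    (eR.injective (by simpa using h5)) (fun hc => h6 (by simpa using congrArg eR hc))
  rw [← this, MulEquiv.apply_symm_apply]

end Hyp

end CfsgLib.GWApps.GenDihedral
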