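import Cfsg.Agent.Lib.GWApps.GenDihedralRankTwo
import Cfsg.Agent.Lib.GWApps.GenDihedralQuotient
import Cfsg.Agent.Lib.TwoGroups.RankOne
import Cfsg.Agent.Lib.TwoGroups.Taussky
import Cfsg.Agent.Lib.TwoGroups.QuasiDihedralFacts
import Cfsg.Agent.Lib.PGroups.MaximalClass
import Cfsg.Agent.Lib.SectRank.KleinCentralizer
import Cfsg.Agent.Lib.Involutions.BrauerSuzuki

/-!
S3322 from the Gorenstein-Walter theorem.
-/

set_option autoImplicit false
open Cfsg

namespace CfsgLib.GWApps.GenDihedral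

universe u

variable {G : Type u} [Group G] [Finite G]

theorem isSolvable_of_index_two {K : Subgroup G} (hK : K.index = 2) [Group.IsSolvable K] :
    Group.IsSolvable G := by
  haveI := Subgroup.normal_of_index_eq_two hK
  haveI : Group.IsSolvable (G ⧸ K) := by
    have hc : Nat.card (G ⧸ K) = 2 := by rw [← Subgroup.index_eq_card, hK]
    haveI := isCyclic_of_prime_card hc
    exact Group.isSolvable_of_comm fun a b => IsMulCommutative.is_comm.comm a b
  exact solvable_of_ker_le_range K.subtype (QuotientGroup.mk' K)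
    (by rw [QuotientGroup.ker_mk', Subgroup.range_subtype])

theorem isSolvable_of_cyclic_sylow {K : Type u} [Group K] [Finite K] (P : Sylow 2 K)
    (hP : IsCyclic P) : Group.IsSolvable K := by
  haveI : Fact (Nat.Prime 2) := ⟨Nat.prime_two⟩
  by_cases hev : Even (Nat.card K)
  swap
  · exact Cfsg.Agent.S0205.result (Nat.not_even_iff_odd.1 hev)
  have hmin : (Nat.card K).minFac = 2 := Nat.minFac_eq_two_iff _ |>.2 (even_iff_two_dvd.1 hev)
  have hN := IsCyclic.normalizer_le_centralizer hmin hP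
  set φ := MonoidHom.transferSylow P hN
  haveI : Group.IsSolvable φ.ker := Cfsg.Agent.S0205.result
    (Nat.not_even_iff_odd.1 fun he =>
      MonoidHom.not_dvd_card_ker_transferSylow P hN (even_iff_two_dvd.1 he))
  haveI : Group.IsSolvable (P : Subgroup K) := by
    haveI := P.isPGroup'.isNilpotent
    infer_instance
  exact solvable_of_ker_le_range φ.ker.subtype φ (by rw [Subgroup.range_subtype])

namespace Hyp

variable {H A : Subgroup G} (h : Hyp H A) {j : G} (hj : j ∈ A) (hjo : orderOf j = 2)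
  (hu : ∀ a ∈ A, orderOf a = 2 → a = j)
include h hj hjo hu

omit hu in
theorem hjj : j * j = 1 := by rw [← pow_two, ← hjo, pow_orderOf_eq_one]

omit hu in
theorem cent_j : Subgroup.centralizer ({j} : Set G) = H :=
  h.cent hj (by rw [← pow_two, ← hjo, pow_orderOf_eq_one]) fun hc => by
    rw [hc, orderOf_one] at hjo; omega

omit hu in
theorem exists_sylow_one :
    ∃ T : Sylow 2 G, j ∈ (T : Subgroup G) ∧ (∃ w ∈ (T : Subgroup G), w ∈ H ∧ w ∉ A) ∧
      ¬ 2 ∣ (((T : Subgroup G) ⊓ H).subgroupOf H).index := by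
  haveI : Fact (Nat.Prime 2) := ⟨Nat.prime_two⟩
  obtain ⟨S⟩ : Nonempty (Sylow 2 H) := inferInstance
  obtain ⟨T, hT⟩ := (S.isPGroup'.map H.subtype).exists_le_sylow
  have hST : ∀ x : H, x ∈ (S : Subgroup H) → (x : G) ∈ (T : Subgroup G) :=
    fun x hx => hT ⟨x, hx, rfl⟩
  refine ⟨T, ?_, ?_, ?_⟩
  · set jj : H := ⟨j, h.hAH.le hj⟩
    haveI : (Subgroup.zpowers jj).Normal := by
      refine Subgroup.Normal.mk fun x hx g => ?_
      have hcen : jj ∈ Subgroup.center H :=
        Subgroup.mem_center_iff.2 fun y => Subtype.ext (h.central hj (h.hjj hj hjo) y y.2)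
      rw [Subgroup.mem_center_iff.1 (Subgroup.zpowers_le.2 hcen hx) g, mul_inv_cancel_right]
      exact hx
    have hp : IsPGroup 2 (Subgroup.zpowers jj) :=
      IsPGroup.of_card (n := 1) (by rw [Nat.card_zpowers, Subgroup.orderOf_mk, hjo, pow_one])
    exact hST jj (hp.le_sylow_of_normal S (Subgroup.mem_zpowers _))
  · by_contra hall
    push Not at hall
    have hle : (S : Subgroup H) ≤ A.subgroupOf H := fun x hx =>
      Subgroup.mem_subgroupOf.2 (hall _ (hST x hx) x.2)
    have hi : (A.subgroupOf H).index = 2 := by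
      have h3 := (A.subgroupOf H).card_mul_index
      rw [Nat.card_congr (Subgroup.subgroupOfEquivOfLe h.hAH.le).toEquiv, h.card_H, mul_comm 2] at h3
      exact Nat.eq_of_mul_eq_mul_left Nat.card_pos h3
    have h2d := Subgroup.index_dvd_of_le hle
    rw [hi] at h2d
    exact S.not_dvd_index h2d
  · intro hd
    refine S.not_dvd_index (hd.trans (Subgroup.index_dvd_of_le fun x hx => ?_))
    exact Subgroup.mem_subgroupOf.2 ⟨hST x hx, x.2⟩

/-- A Sylow subgroup inside `H` is dihedral. -/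
theorem hasDihedralSylow_of_le (T : Sylow 2 G) (hTH : (T : Subgroup G) ≤ H)
    (hjT : j ∈ (T : Subgroup G)) {w : G} (hwT : w ∈ (T : Subgroup G)) (hwA : w ∉ A) :
    GW.HasDihedralSylow G := by
  haveI : Fact (Nat.Prime 2) := ⟨Nat.prime_two⟩
  set B := A.subgroupOf (T : Subgroup G) with hB
  letI : CommGroup B := { (inferInstance : Group B) with
    mul_comm := fun a b => Subtype.ext (Subtype.ext (h.comm_A (Subgroup.mem_subgroupOf.1 a.2) (Subgroup.mem_subgroupOf.1 b.2))) }
  have hBp : IsPGroup 2 B := T.isPGroup'.to_subgroup _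
  have huB : CfsgLib.TwoGroups.UniqueOrderP 2 B := by
    intro a b ha hb
    have : a = b := Subtype.ext (Subtype.ext ((hu _ (Subgroup.mem_subgroupOf.1 a.2) (by
      rw [Subgroup.orderOf_coe, Subgroup.orderOf_coe, ha])).trans
        (hu _ (Subgroup.mem_subgroupOf.1 b.2) (by rw [Subgroup.orderOf_coe, Subgroup.orderOf_coe, hb])).symm))
    rw [this]
    exact Subgroup.mem_zpowers b
  haveI := CfsgLib.TwoGroups.isCyclic_of_uniqueOrderP_comm hBp huB
  obtain ⟨g, hg⟩ := IsCyclic.exists_generator (α := B)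
  have hgc : orderOf g = Nat.card B := orderOf_eq_card_of_forall_mem_zpowers hg
  have hwH := hTH hwT
  have hidx : B.index = 2 := Subgroup.index_eq_two_iff.2 ⟨⟨w, hwT⟩, fun b => by
    rw [hB, Subgroup.mem_subgroupOf, Subgroup.mem_subgroupOf]
    by_cases hb : (b : G) ∈ A
    · exact Or.inr ⟨hb, fun hc => hwA (by simpa using mul_mem (inv_mem hb) hc)⟩
    · exact Or.inl ⟨h.mul_mem_A (hTH b.2) hb hwH hwA, hb⟩⟩
  have h2B : 2 ∣ Nat.card B := by
    have := Subgroup.orderOf_dvd_natCard B (show (⟨j, hjT⟩ : (T : Subgroup G)) ∈ B from hj)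
    rwa [Subgroup.orderOf_mk, hjo] at this
  refine ⟨T, Nat.card B, Nat.le_of_dvd Nat.card_pos h2B,
    CfsgLib.TwoGroups.nonempty_mulEquiv_dihedral (x := (g : (T : Subgroup G))) (y := ⟨w, hwT⟩)
      (by rw [Subgroup.orderOf_coe, hgc]) ?_ ?_ ?_ ?_⟩
  · rw [← B.card_mul_index, hidx, mul_comm]
  · intro hc
    obtain ⟨i, hi⟩ := Subgroup.mem_zpowers_iff.1 hc
    have : (⟨w, hwT⟩ : (T : Subgroup G)) ∈ B := hi ▸ zpow_mem g.2 i
    exact hwA (Subgroup.mem_subgroupOf.1 this)
  · exact Subtype.ext (by rw [Subgroup.coe_pow, pow_two]; exact h.hD w hwH hwA)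
  · apply Subtype.ext
    show w * ((g : (T : Subgroup G)) : G) * w⁻¹ = (((g : (T : Subgroup G))⁻¹ : (T : Subgroup G)) : G)
    rw [inv_eq_self_of_sq (h.hD w hwH hwA), h.inverts hwH hwA (Subgroup.mem_subgroupOf.1 g.2)]
    rfl

/-- A Sylow subgroup outside `H` is dihedral or quasi-dihedral and `|H|₂ = 4`. -/
theorem sylow_cases_of_not_le (T : Sylow 2 G) (hTH : ¬ (T : Subgroup G) ≤ H)
    (hjT : j ∈ (T : Subgroup G)) {w : G} (hwT : w ∈ (T : Subgroup G)) (hwH : w ∈ H) (hwA : w ∉ A) :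
    Nat.card ((T : Subgroup G) ⊓ H : Subgroup G) = 4 ∧
      (GW.HasDihedralSylow G ∨ Cfsg.IsQuasiDihedral ↥(T : Subgroup G)) := by
  classical
  haveI : Fact (Nat.Prime 2) := ⟨Nat.prime_two⟩
  have hjc := h.cent_j hj hjo
  have hjj := h.hjj hj hjo
  haveI : Nontrivial (T : Subgroup G) :=
    ⟨⟨⟨j, hjT⟩, 1, fun hc => by
      rw [← Subgroup.orderOf_mk (H := (T : Subgroup G)) j hjT, hc, orderOf_one] at hjo; omega⟩⟩
  haveI := T.isPGroup'.center_nontrivial
  obtain ⟨⟨z, hzT⟩, hzc, hzo⟩ : ∃ z : (T : Subgroup G), z ∈ Subgroup.center (T : Subgroup G) ∧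
      orderOf z = 2 := by
    obtain ⟨k, hk⟩ := IsPGroup.iff_card.1 (T.isPGroup'.to_subgroup (Subgroup.center (T : Subgroup G)))
    obtain ⟨z, hz⟩ := exists_prime_orderOf_dvd_card' (G := Subgroup.center (T : Subgroup G)) 2 (by
      rw [hk]
      refine dvd_pow_self 2 fun hk0 => ?_
      rw [hk0, pow_zero] at hk
      exact absurd hk (Finite.one_lt_card).ne')
    exact ⟨z, z.2, by rw [Subgroup.orderOf_coe, hz]⟩
  rw [Subgroup.orderOf_mk] at hzo
  have hzc' : ∀ t ∈ (T : Subgroup G), t * z = z * t := fun t ht =>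
    congrArg Subtype.val (Subgroup.mem_center_iff.1 hzc ⟨t, ht⟩)
  have hzH : z ∈ H := by
    rw [← hjc, Subgroup.mem_centralizer_singleton_iff]
    exact (hzc' j hjT).symm
  have hzA : z ∉ A := fun hc => hTH fun t ht => by
    rw [← hjc, Subgroup.mem_centralizer_singleton_iff, ← hu z hc hzo]
    exact hzc' t ht
  have hA2 : ∀ a ∈ (T : Subgroup G), a ∈ A → a = 1 ∨ a = j := fun a haT ha => by
    refine h.eq_one_or_eq hj hjo hu ha ?_
    have := h.inverts hzH hzA ha
    rw [mul_assoc, hzc' a haT, ← mul_assoc, h.hD z hzH hzA, one_mul] at this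
    exact eq_inv_iff_mul_eq_one.1 this
  set V := (T : Subgroup G) ⊓ H with hV
  have hVe : (V : Set G) = {1, j, z, z * j} := by
    ext x
    simp only [hV, Set.mem_insert_iff, Set.mem_singleton_iff, SetLike.mem_coe, Subgroup.mem_inf]
    constructor
    · rintro ⟨hxT, hxH⟩
      by_cases hxA : x ∈ A
      · rcases hA2 x hxT hxA with e | e
        · exact Or.inl e
        · exact Or.inr (Or.inl e)
      · have hxe : x = z * (z * x) := by rw [← mul_assoc, h.hD z hzH hzA, one_mul]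
        rcases hA2 _ (mul_mem hzT hxT) (h.mul_mem_A hzH hzA hxH hxA) with e | e
        · exact Or.inr (Or.inr (Or.inl (by rw [hxe, e, mul_one])))
        · exact Or.inr (Or.inr (Or.inr (by rw [hxe, e])))
    · rintro (rfl | rfl | rfl | rfl)
      · exact ⟨one_mem _, one_mem _⟩
      · exact ⟨hjT, h.hAH.le hj⟩
      · exact ⟨hzT, hzH⟩
      · exact ⟨mul_mem hzT hjT, mul_mem hzH (h.hAH.le hj)⟩
  have hj1 : j ≠ 1 := fun hc => by rw [hc, orderOf_one] at hjo; omega
  have hz1 : z ≠ 1 := fun hc => by rw [hc, orderOf_one] at hzo; omega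
  have hzj : z ≠ j := fun hc => hzA (hc ▸ hj)
  have hcard : Nat.card V = 4 := by
    have hset : Nat.card V = Nat.card ({1, j, z, z * j} : Set G) := by rw [← hVe]; rfl
    rw [hset, Nat.card_coe_set_eq, Set.ncard_insert_of_notMem, Set.ncard_insert_of_notMem,
      Set.ncard_pair]
    · intro hc
      exact hj1 (mul_eq_left.1 hc.symm)
    · simp only [Set.mem_insert_iff, Set.mem_singleton_iff, not_or]
      exact ⟨Ne.symm hzj, fun hc => hz1 (mul_eq_right.1 hc.symm)⟩
    · simp only [Set.mem_insert_iff, Set.mem_singleton_iff, not_or]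
      refine ⟨Ne.symm hj1, Ne.symm hz1, fun hc => hzj ?_⟩
      rw [eq_inv_of_mul_eq_one_left hc.symm, inv_eq_self_of_sq hjj]
  refine ⟨hcard, ?_⟩
  set V' := V.subgroupOf (T : Subgroup G) with hV'
  have hcardV' : Nat.card V' = 2 ^ 2 := by
    rw [Nat.card_congr (Subgroup.subgroupOfEquivOfLe inf_le_left).toEquiv, hcard]
    norm_num
  have hVcomm : ∀ a ∈ V, ∀ b ∈ V, a * b = b * a := fun a ha b hb => by
    haveI := IsPGroup.isMulCommutative_of_card_eq_prime_sq hcardV'
    exact congrArg (fun q : V' => ((q : (T : Subgroup G)) : G))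
      (IsMulCommutative.is_comm.comm (⟨⟨a, ha.1⟩, ha⟩ : V') ⟨⟨b, hb.1⟩, hb⟩)
  have hjV : j ∈ V := ⟨hjT, h.hAH.le hj⟩
  have hself : Subgroup.centralizer (V' : Set (T : Subgroup G)) = V' := by
    refine le_antisymm (fun c hc => ?_) fun c hc => Subgroup.mem_centralizer_iff.2 fun b hb =>
      Subtype.ext (hVcomm _ hb _ hc)
    refine Subgroup.mem_subgroupOf.2 (Subgroup.mem_inf.2 ⟨c.2, ?_⟩)
    rw [← hjc, Subgroup.mem_centralizer_singleton_iff]
    exact (congrArg Subtype.val (Subgroup.mem_centralizer_iff.1 hc ⟨j, hjT⟩ hjV)).symm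
  obtain ⟨m, hm⟩ := IsPGroup.iff_card.1 T.isPGroup'
  have hclass := CfsgLib.PGroups.class_of_self_centralizing_sq m hm V' hcardV' hself
  have hlt : Nat.card V' < Nat.card (T : Subgroup G) := by
    refine lt_of_le_of_ne (Subgroup.card_le_card_group _) fun he => hTH fun t ht => ?_
    have htop := Subgroup.eq_top_of_card_eq V' he
    exact ((htop ▸ Subgroup.mem_top _ : (⟨t, ht⟩ : (T : Subgroup G)) ∈ V')).2
  rw [hcardV', hm, Nat.pow_lt_pow_iff_right (by norm_num)] at hlt
  have hcom := CfsgLib.PGroups.card_commutator_of_maximal_class (by omega) hm hclass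
  have h4 : (commutator (T : Subgroup G)).index = 4 := by
    have := (commutator (T : Subgroup G)).card_mul_index
    rw [hcom, hm, show 2 ^ m = 2 ^ (m - 2) * 4 by
      rw [show (4 : ℕ) = 2 ^ 2 by norm_num, ← pow_add]; congr 1; omega] at this
    exact Nat.eq_of_mul_eq_mul_left (by positivity) this
  have h8 : 8 ≤ Nat.card (T : Subgroup G) := by
    rw [hm]
    calc 8 = 2 ^ 3 := rfl
      _ ≤ _ := Nat.pow_le_pow_right two_pos hlt
  rcases CfsgLib.TwoGroups.taussky T.isPGroup' h4 with hk | hc | ⟨n, hn, ⟨e⟩⟩ | ⟨n, hn, ⟨e⟩⟩ | hq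
  · have := hk.card_four
    omega
  · exfalso
    haveI := hc
    refine hTH fun t ht => ?_
    rw [← hjc, Subgroup.mem_centralizer_singleton_iff]
    exact congrArg Subtype.val
      ((IsCyclic.isMulCommutative (α := (T : Subgroup G))).is_comm.comm ⟨t, ht⟩ ⟨j, hjT⟩)
  · exact Or.inl ⟨T, 2 ^ n, (Nat.le_self_pow (by omega) 2), ⟨e⟩⟩
  · exfalso
    exact hzj (CfsgLib.Involutions.unique_involution_of_quaternion T e hzT hjT hzo hjo)
  · exact Or.inr hq

omit hu in
theorem not_eight_dvd (T : Sylow 2 G) (hc : Nat.card ((T : Subgroup G) ⊓ H : Subgroup G) = 4)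
    (hodd : ¬ 2 ∣ (((T : Subgroup G) ⊓ H).subgroupOf H).index) :
    ¬ 8 ∣ Nat.card (Subgroup.centralizer ({j} : Set G)) := by
  rw [h.cent_j hj hjo]
  intro h8
  have h1 := (((T : Subgroup G) ⊓ H).subgroupOf H).card_mul_index
  rw [Nat.card_congr (Subgroup.subgroupOfEquivOfLe inf_le_right).toEquiv, hc] at h1
  rw [← h1] at h8
  exact hodd (by omega)

/-- The quasi-dihedral case does not occur. -/
theorem false_of_quasi (T : Sylow 2 G) (hjT : j ∈ (T : Subgroup G)) (hTH : ¬ (T : Subgroup G) ≤ H)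
    (hc : Nat.card ((T : Subgroup G) ⊓ H : Subgroup G) = 4)
    (hodd : ¬ 2 ∣ (((T : Subgroup G) ⊓ H).subgroupOf H).index)
    (hq : Cfsg.IsQuasiDihedral ↥(T : Subgroup G)) : False := by
  classical
  haveI : Fact (Nat.Prime 2) := ⟨Nat.prime_two⟩
  obtain ⟨k, x, y, hxy⟩ := CfsgLib.TwoGroups.exists_sdGen hq
  have h8T : 8 ∣ Nat.card (T : Subgroup G) := by
    rw [hxy.card_eq, show (8 : ℕ) = 2 ^ 3 from rfl]
    exact pow_dvd_pow 2 (by omega)
  have h8 : 8 ∣ Nat.card G := h8T.trans (Subgroup.card_subgroup_dvd_card _)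
  obtain ⟨K, hK, hjK⟩ := CfsgLib.SectRank.KleinCentralizer.exists_index_two_not_mem' hjo
    (h.not_eight_dvd hj hjo T hc hodd) h8
  haveI hKn : K.Normal := Subgroup.normal_of_index_eq_two hK
  set M := K.subgroupOf (T : Subgroup G) with hM
  set jT : (T : Subgroup G) := ⟨j, hjT⟩
  have hjM : jT ∉ M := hjK
  have hMi : M.index = 2 := Subgroup.index_eq_two_iff.2 ⟨jT, fun b => by
    rw [hM, Subgroup.mem_subgroupOf, Subgroup.mem_subgroupOf, Subgroup.coe_mul,
      Subgroup.mul_mem_iff_of_index_two hK]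
    by_cases hb : (b : G) ∈ K
    · exact Or.inr ⟨hb, fun hc => hjK (hc.1 hb)⟩
    · exact Or.inl ⟨iff_of_false hb hjK, hb⟩⟩
  -- a Sylow subgroup of `K`
  set TK := (T : Subgroup G).subgroupOf K with hTK
  have hTKp : IsPGroup 2 TK := T.isPGroup'.comap_subtype
  let eTM : TK ≃* M :=
    { toFun := fun a => ⟨⟨((a : K) : G), a.2⟩, (a : K).2⟩
      invFun := fun a => ⟨⟨((a : (T : Subgroup G)) : G), a.2⟩, (a : (T : Subgroup G)).2⟩
      left_inv := fun a => rfl
      right_inv := fun a => rfl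
      map_mul' := fun a b => rfl }
  have hcardTK : 2 * Nat.card TK = Nat.card (T : Subgroup G) := by
    rw [← M.card_mul_index, hMi, Nat.card_congr eTM.toEquiv, mul_comm]
  have hidxTK : ¬ 2 ∣ TK.index := by
    intro hd
    refine T.not_dvd_index ?_
    have h1 := TK.card_mul_index
    have h2 := K.card_mul_index
    have h3 := (T : Subgroup G).card_mul_index
    rw [hK, ← h1] at h2
    rw [← hcardTK, ← h2] at h3
    have : (T : Subgroup G).index = TK.index := by
      refine Nat.eq_of_mul_eq_mul_left (Nat.mul_pos two_pos (Nat.card_pos (α := TK))) ?_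
      rw [h3]; ring
    rwa [this]
  let P : Sylow 2 K := hTKp.toSylow hidxTK
  have eP : (P : Subgroup K) = TK := IsPGroup.toSylow_coe hTKp hidxTK
  let ePM : (P : Subgroup K) ≃* M := (MulEquiv.subgroupCongr eP).trans eTM
  have hMco : IsCoatom M := CfsgLib.TwoGroups.isCoatom_of_index_prime (by rw [hMi]; exact Nat.prime_two)
  have hns := h.hns
  rcases hxy.coatom_cases hMco with hMx | ⟨a, ha⟩
  · -- cyclic Sylow subgroup
    have hcy : IsCyclic M := by rw [hMx]; infer_instance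
    haveI := isSolvable_of_cyclic_sylow P
      (isCyclic_of_surjective ePM.symm.toMonoidHom ePM.symm.surjective)
    exact hns (isSolvable_of_index_two hK)
  -- quaternion Sylow subgroup
  have haodd : Odd a := by
    by_contra hev
    rw [Int.not_odd_iff_even] at hev
    obtain ⟨c, hc'⟩ := hev
    have hyM : y ∈ M := by
      have := (ha.mem_mul_iff 0).2 (by rw [hc']; exact ⟨-c, by push_cast; ring⟩)
      simpa using this
    rcases hxy.involution_cases (t := jT) (by rw [Subgroup.orderOf_mk, hjo]) with e | e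
    · refine hTH fun t ht => ?_
      rw [← h.cent_j hj hjo, Subgroup.mem_centralizer_singleton_iff]
      have hcz : jT ∈ Subgroup.center (T : Subgroup G) := by
        rw [e, hxy.center_eq]
        exact Subgroup.mem_zpowers_iff.2 ⟨1, by rw [zpow_one, ← zpow_natCast]; norm_cast⟩
      exact congrArg Subtype.val (Subgroup.mem_center_iff.1 hcz ⟨t, ht⟩)
    · obtain ⟨g, hg⟩ := isConj_iff.1 e
      haveI := Subgroup.normal_of_index_eq_two hMi
      exact hjM (hg ▸ (inferInstance : M.Normal).conj_mem y hyM g)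
  obtain ⟨-, ⟨eQ⟩⟩ := hxy.shape_quaternion (j := 0) ha haodd
  set O := Cfsg.oddCore G with hO
  haveI : O.Normal := by
    haveI := CfsgLib.Cores.pPrimeCore_characteristic 2 G
    rw [hO, Cfsg.oddCore]; infer_instance
  have hOodd : Odd (Nat.card O) := CfsgLib.Cores.odd_card_oddCore
  have hOQ : Cfsg.oddCore (G ⧸ O) = ⊥ := CfsgLib.Cores.pPrimeCore_quotient_pPrimeCore 2
  have hnsQ : ¬ Group.IsSolvable (G ⧸ O) := fun hs => by
    haveI : Group.IsSolvable O := Cfsg.Agent.S0205.result hOodd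
    exact hns (solvable_of_ker_le_range O.subtype (QuotientGroup.mk' O)
      (by rw [QuotientGroup.ker_mk', Subgroup.range_subtype]))
  have hOK : O ≤ K := by
    intro o ho
    obtain ⟨l, hl⟩ : Odd (orderOf o) := hOodd.of_dvd_nat (Subgroup.orderOf_dvd_natCard _ ho)
    have h1 := pow_mem (Subgroup.mul_self_mem_of_index_two hK o) (l + 1)
    rwa [← pow_two, ← pow_mul, show 2 * (l + 1) = orderOf o + 1 by omega, pow_succ,
      pow_orderOf_eq_one, one_mul] at h1
  set Kb := K.map (QuotientGroup.mk' O) with hKb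
  have hKbi : Kb.index = 2 := by
    rw [hKb, Subgroup.index_map_eq _ (QuotientGroup.mk'_surjective O)
      (by rw [QuotientGroup.ker_mk']; exact hOK), hK]
  haveI : Kb.Normal := Subgroup.normal_of_index_eq_two hKbi
  have hjKb : (j : G ⧸ O) ∉ Kb := by
    rintro ⟨k', hk', hk''⟩
    rw [QuotientGroup.mk'_apply, QuotientGroup.eq] at hk''
    exact hjK (by simpa using mul_mem hk' (hOK hk''))
  let κ : K →* Kb := (QuotientGroup.mk' O).subgroupMap K
  have hκ : Function.Surjective κ := (QuotientGroup.mk' O).subgroupMap_surjective K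
  let Pb : Sylow 2 Kb := P.mapSurjective hκ
  have hinjP : Function.Injective (κ.comp (P : Subgroup K).subtype) := by
    intro a b hab
    have hab' : ((((a : K) : G)) : G ⧸ O) = (((b : K) : G)) := congrArg Subtype.val hab
    have ha2 : ((a : K) : G) ∈ (T : Subgroup G) :=
      Subgroup.mem_subgroupOf.1 (show (a : K) ∈ TK from eP ▸ a.2)
    have hb2 : ((b : K) : G) ∈ (T : Subgroup G) :=
      Subgroup.mem_subgroupOf.1 (show (b : K) ∈ TK from eP ▸ b.2)
    have := @GW.mk_injective_on_pgroup G _ _ (T : Subgroup G) T.isPGroup' O _ hOodd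
      ⟨_, ha2⟩ ⟨_, hb2⟩ hab'
    exact Subtype.ext (Subtype.ext (congrArg Subtype.val this :))
  let ePb : (Pb : Subgroup Kb) ≃* QuaternionGroup (2 ^ (k + 1 - 0)) :=
    (MulEquiv.subgroupCongr (Sylow.coe_mapSurjective hκ P)).trans
      (((MonoidHom.ofInjective hinjP).trans (MulEquiv.subgroupCongr (by
        rw [MonoidHom.range_comp, Subgroup.range_subtype]))).symm.trans (ePM.trans eQ))
  have hOKb : Cfsg.oddCore Kb = ⊥ := by
    have h1 := CfsgLib.Cores.map_subtype_pPrimeCore_le (p := 2)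
      (Subgroup.Normal.isSubnormal (inferInstance : Kb.Normal))
    rw [show Cfsg.pPrimeCore 2 (G ⧸ O) = ⊥ from hOQ, le_bot_iff,
      Subgroup.map_eq_bot_iff_of_injective _ Kb.subtype_injective] at h1
    exact h1
  have hZ : Nat.card (Subgroup.center Kb) = 2 :=
    CfsgLib.Involutions.brauer_suzuki Pb (Nat.le_self_pow (by omega) 2) ePb hOKb
  obtain ⟨⟨⟨z, hzK⟩, hzC⟩, hzo⟩ :=
    exists_prime_orderOf_dvd_card' (G := Subgroup.center Kb) 2 hZ.symm.dvd
  rw [Subgroup.orderOf_mk, Subgroup.orderOf_mk] at hzo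
  have hzcentral : ∀ q : G ⧸ O, q * z = z * q := by
    intro q
    haveI : ((Subgroup.center Kb).map Kb.subtype).Normal := inferInstance
    have hm : q * z * q⁻¹ ∈ (Subgroup.center Kb).map Kb.subtype :=
      (inferInstance : ((Subgroup.center Kb).map Kb.subtype).Normal).conj_mem z ⟨⟨z, hzK⟩, hzC, rfl⟩ q
    obtain ⟨⟨v, hvK⟩, hvC, hv⟩ := hm
    have hv' : q * z * q⁻¹ = v := hv.symm
    have hz2 : Nat.card (Subgroup.zpowers (⟨z, hzK⟩ : Kb)) = 2 := by
      rw [Nat.card_zpowers, Subgroup.orderOf_mk, hzo]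
    have hZe : Subgroup.zpowers (⟨z, hzK⟩ : Kb) = Subgroup.center Kb :=
      Subgroup.eq_of_le_of_card_ge (Subgroup.zpowers_le.2 hzC) (by rw [hZ, hz2])
    obtain ⟨i, hi⟩ := Subgroup.mem_zpowers_iff.1 (hZe ▸ hvC : (⟨v, hvK⟩ : Kb) ∈ _)
    have hi' : z ^ i = v := congrArg Subtype.val hi
    have hzz : z * z = 1 := by rw [← pow_two, ← hzo, pow_orderOf_eq_one]
    rcases Int.even_or_odd i with ⟨l, rfl⟩ | ⟨l, rfl⟩
    · exfalso
      rw [← two_mul, zpow_mul, zpow_two, hzz, one_zpow] at hi'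
      rw [← hi'] at hv'
      rw [conj_eq_one_iff.1 hv', orderOf_one] at hzo
      omega
    · rw [zpow_add_one, zpow_mul, zpow_two, hzz, one_zpow, one_mul] at hi'
      rw [← hi'] at hv'
      exact mul_inv_eq_iff_eq_mul.1 hv'
  have hj1 : (j : G ⧸ O) ≠ 1 := mk_ne_one hjo O hOodd
  have hjq : orderOf (j : G ⧸ O) = 2 := orderOf_two (by
    rw [← QuotientGroup.mk_mul, h.hjj hj hjo, QuotientGroup.mk_one]) hj1
  have hzj : z ≠ (j : G ⧸ O) := fun hc => hjKb (hc ▸ hzK)
  have hz1 : z ≠ 1 := fun hc => by rw [hc, orderOf_one] at hzo; omega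
  set C := Subgroup.centralizer ({(j : G ⧸ O)} : Set (G ⧸ O)) with hC
  have hCm := h.cent_mk hj hjo O hOodd
  have hzC : z ∈ C := Subgroup.mem_centralizer_singleton_iff.2 (hzcentral _).symm
  have hjC : (j : G ⧸ O) ∈ C := Subgroup.mem_centralizer_singleton_iff.2 rfl
  obtain ⟨zz, hzzH, hzz⟩ : z ∈ H.map (QuotientGroup.mk' O) := hCm ▸ hzC
  rw [QuotientGroup.mk'_apply] at hzz
  have hzzA : zz ∉ A := by
    intro hc
    rcases h.mk_sq_cases hj hjo hu O hOodd hc
      (by rw [hzz, ← pow_two, ← hzo, pow_orderOf_eq_one]) with e | e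
    · exact hz1 (hzz ▸ e)
    · exact hzj (hzz ▸ e)
  have hAim : ∀ a ∈ A, (a : G ⧸ O) = 1 ∨ (a : G ⧸ O) = j := fun a ha => by
    refine h.mk_sq_cases hj hjo hu O hOodd ha ?_
    have h1 : (zz : G ⧸ O) * a * zz = (a : G ⧸ O)⁻¹ := by
      rw [← QuotientGroup.mk_mul, ← QuotientGroup.mk_mul, h.inverts hzzH hzzA ha, QuotientGroup.mk_inv]
    rw [mul_assoc, hzz, hzcentral, ← mul_assoc, ← pow_two, ← hzo, pow_orderOf_eq_one, one_mul] at h1
    exact eq_inv_iff_mul_eq_one.1 h1
  have hCset : (C : Set (G ⧸ O)) = {1, (j : G ⧸ O), z, z * j} := by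
    ext q
    simp only [Set.mem_insert_iff, Set.mem_singleton_iff, SetLike.mem_coe]
    constructor
    · intro hq
      rw [hC, hCm] at hq
      obtain ⟨v, hv, rfl⟩ := hq
      rw [QuotientGroup.mk'_apply]
      by_cases hvA : v ∈ A
      · rcases hAim v hvA with e | e
        · exact Or.inl e
        · exact Or.inr (Or.inl e)
      · have he : v = zz * (zz * v) := by rw [← mul_assoc, h.hD zz hzzH hzzA, one_mul]
        rw [he, QuotientGroup.mk_mul, hzz]
        rcases hAim _ (h.mul_mem_A hzzH hzzA hv hvA) with e | e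
        · exact Or.inr (Or.inr (Or.inl (by rw [e, mul_one])))
        · exact Or.inr (Or.inr (Or.inr (by rw [e])))
    · rintro (rfl | rfl | rfl | rfl)
      exacts [one_mem _, hjC, hzC, mul_mem hzC hjC]
  have hC4 : Nat.card C = 4 := by
    have hset : Nat.card C = Nat.card ({1, (j : G ⧸ O), z, z * j} : Set (G ⧸ O)) := by
      rw [← hCset]; rfl
    rw [hset, Nat.card_coe_set_eq, Set.ncard_insert_of_notMem, Set.ncard_insert_of_notMem,
      Set.ncard_pair]
    · exact fun hc => hj1 (mul_eq_left.1 hc.symm)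
    · simp only [Set.mem_insert_iff, Set.mem_singleton_iff, not_or]
      exact ⟨Ne.symm hzj, fun hc => hz1 (mul_eq_right.1 hc.symm)⟩
    · simp only [Set.mem_insert_iff, Set.mem_singleton_iff, not_or]
      refine ⟨Ne.symm hj1, Ne.symm hz1, fun hc => hzj ?_⟩
      rw [eq_inv_of_mul_eq_one_left hc.symm, inv_eq_self_of_sq (by
        rw [← QuotientGroup.mk_mul, h.hjj hj hjo, QuotientGroup.mk_one])]
  have h8Q : 8 ∣ Nat.card (G ⧸ O) := by
    have h1 := Subgroup.card_eq_card_quotient_mul_card_subgroup O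
    rw [h1] at h8
    exact (Nat.Coprime.pow_left 3 (Nat.coprime_two_left.2 hOodd)).dvd_of_dvd_mul_right h8
  exact hnsQ (CfsgLib.SectRank.KleinCentralizer.isSolvable hjq hC4 h8Q)

theorem concl_of_one_involution (hGW : DihedralPerfect.{u}) : Concl G := by
  classical
  haveI : Fact (Nat.Prime 2) := ⟨Nat.prime_two⟩
  obtain ⟨T, hjT, ⟨w, hwT, hwH, hwA⟩, hodd⟩ := h.exists_sylow_one hj hjo
  have hd : GW.HasDihedralSylow G := by
    by_cases hTH : (T : Subgroup G) ≤ H
    · exact h.hasDihedralSylow_of_le hj hjo hu T hTH hjT hwT hwA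
    · obtain ⟨hc, hd | hq⟩ := h.sylow_cases_of_not_le hj hjo hu T hTH hjT hwT hwH hwA
      · exact hd
      · exact (h.false_of_quasi hj hjo hu T hjT hTH hc hodd hq).elim
  set O := Cfsg.oddCore G with hO
  haveI : O.Normal := by
    haveI := CfsgLib.Cores.pPrimeCore_characteristic 2 G
    rw [hO, Cfsg.oddCore]; infer_instance
  have hOodd : Odd (Nat.card O) := CfsgLib.Cores.odd_card_oddCore
  have hOQ : Cfsg.oddCore (G ⧸ O) = ⊥ := CfsgLib.Cores.pPrimeCore_quotient_pPrimeCore 2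
  have hnsQ : ¬ Group.IsSolvable (G ⧸ O) := fun hs => by
    haveI : Group.IsSolvable O := Cfsg.Agent.S0205.result hOodd
    exact h.hns (solvable_of_ker_le_range O.subtype (QuotientGroup.mk' O)
      (by rw [QuotientGroup.ker_mk', Subgroup.range_subtype]))
  have hdQ := hasDihedralSylow_quotient hd O hOodd
  obtain ⟨S, n, hn, ⟨e⟩⟩ := id hdQ
  let TQ : Sylow 2 (G ⧸ O) := T.mapSurjective (QuotientGroup.mk'_surjective O)
  have hjQ : (j : G ⧸ O) ∈ (TQ : Subgroup (G ⧸ O)) := by
    rw [Sylow.coe_mapSurjective]; exact ⟨j, hjT, rfl⟩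
  have hgen := h.gen_involutions hj hjo hu O hOodd hnsQ hOQ TQ hjQ hn ((TQ.equiv S).trans e)
  rcases classify hGW hdQ hOQ hnsQ hgen with ⟨⟨e7⟩⟩ | ⟨F, iF, iT, h3, he⟩
  · exact (h.not_alt7 hj hjo hu O hOodd e7).elim
  · exact ⟨O, inferInstance, Or.inl hOodd, F, iF, iT, h3, he⟩

end Hyp

/-- S3322, given the Gorenstein-Walter theorem. -/
theorem concl_of_genDihedral (hGW : DihedralPerfect.{u}) (H A : Subgroup G) (hAH : A < H)
    (hD : ∀ x ∈ H, x ∉ A → x ^ 2 = 1) (h4 : 4 ∣ Nat.card H)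
    (hC : ∀ j ∈ H, orderOf j = 2 → (∀ h ∈ H, h * j = j * h) → Subgroup.centralizer ({j} : Set G) = H)
    (hns : ¬ Group.IsSolvable G) : Concl G := by
  have hD' : ∀ x ∈ H, x ∉ A → x * x = 1 := fun x hx hxA => by rw [← pow_two]; exact hD x hx hxA
  by_cases hA2 : ∃ a ∈ A, a * a ≠ 1
  · have h : Hyp H A := ⟨hAH, hD', h4, hC, hns, hA2⟩
    obtain ⟨j, hj, hjo⟩ := h.exists_involution_A
    by_cases hu : ∀ a ∈ A, orderOf a = 2 → a = j
    · exact h.concl_of_one_involution hj hjo hu hGW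
    · push Not at hu
      obtain ⟨a, ha, hao, hne⟩ := hu
      exact h.concl_of_two_involutions ha hj hao hjo hne
  · push Not at hA2
    refine elementary_case (fun x hx => ?_) h4 hC hns
    by_cases hxA : x ∈ A
    · exact hA2 x hxA
    · exact hD' x hx hxA

end CfsgLib.GWApps.GenDihedral
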