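import Cfsg.Agent.Lib.GWApps.Basic
import Cfsg.Agent.Lib.GWApps.Cover
import Cfsg.Agent.Lib.Involutions.BrauerSuzuki
import Cfsg.Agent.Lib.NormalPComplement.Frobenius
import Cfsg.Agent.Lib.PGroups.SLTwoThree
import Cfsg.Agent.S0106

/-!
# Quaternion Sylow 2-subgroups with cyclic intersections

Conditional on the Gorenstein-Walter theorem (`DihedralPerfect`), a nonsolvable group of this kind
has `SL(2, q)` on top of its odd core.
-/

set_option autoImplicit false
set_option linter.style.haveILetI false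
open Cfsg

namespace CfsgLib.GWApps

universe u

variable {G : Type u} [Group G] [Finite G]

theorem card_quaternion_two : Nat.card (QuaternionGroup 2) = 8 := by
  rw [Nat.card_eq_fintype_card, QuaternionGroup.card]

/-- The Sylow 2-subgroups are quaternion of order 8. -/
theorem quaternion_eight (hns : ¬ Group.IsSolvable G)
    (hQ : ∀ S : Sylow 2 G, ∃ n : ℕ, Nonempty (↥(S : Subgroup G) ≃* QuaternionGroup (2 ^ (n + 1))))
    (hC : ∀ S T : Sylow 2 G, S ≠ T → IsCyclic ↥((S : Subgroup G) ⊓ (T : Subgroup G))) :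
    ∀ S : Sylow 2 G, Nonempty (↥(S : Subgroup G) ≃* QuaternionGroup 2) := by
  haveI : Fact (Nat.Prime 2) := ⟨Nat.prime_two⟩
  have hno : ¬ Cfsg.HasNormalPComplement 2 G := by
    rintro ⟨P, N, hN, hc⟩
    haveI := hN
    haveI : Group.IsSolvable N := Cfsg.Agent.S0205.result (by
      rw [← hc.index_eq_card, ← Nat.not_even_iff_odd, even_iff_two_dvd]
      exact P.not_dvd_index)
    obtain ⟨k, hk⟩ := IsPGroup.iff_card.1 P.isPGroup'
    have hp : IsPGroup 2 (G ⧸ N) := IsPGroup.of_card (n := k)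
      (by rw [← Subgroup.index_eq_card, hc.symm.index_eq_card, hk])
    haveI := hp.isNilpotent
    exact hns (Group.isSolvable_of_ker_le_range N.subtype (QuotientGroup.mk' N)
      (by rw [QuotientGroup.ker_mk', Subgroup.range_subtype]))
  obtain ⟨R, hR, x, hxN, hx, hxC⟩ : ∃ Q : Subgroup G, IsPGroup 2 Q ∧
      ∃ g ∈ Subgroup.normalizer (Q : Set G), (orderOf g).Coprime 2 ∧
        g ∉ Subgroup.centralizer (Q : Set G) := by
    by_contra hcon
    apply hno
    rw [CfsgLib.NormalPComplement.hasNormalPComplement_iff_frobeniusCondition]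
    intro Q hQ g hgN hg
    by_contra hgC
    exact hcon ⟨Q, hQ, g, hgN, hg, hgC⟩
  have hodd : ∀ (U : Subgroup G) (hU : x ∈ Subgroup.normalizer (U : Set G)),
      Odd (orderOf (U.normalizerMonoidHom ⟨x, hU⟩)) := fun U hU => by
    have h1 := orderOf_map_dvd U.normalizerMonoidHom ⟨x, hU⟩
    rw [Subgroup.orderOf_mk] at h1
    exact (Nat.coprime_two_right.1 hx).of_dvd_nat h1
  have hnotcent : ∀ (U : Subgroup G) (hU : x ∈ Subgroup.normalizer (U : Set G)), R ≤ U →
      U.normalizerMonoidHom ⟨x, hU⟩ ≠ 1 := fun U hU hle h => by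
    have h2 : (⟨x, hU⟩ : Subgroup.normalizer (U : Set G)) ∈ U.normalizerMonoidHom.ker := h
    rw [Subgroup.normalizerMonoidHom_ker] at h2
    exact hxC (Subgroup.centralizer_le hle h2)
  obtain ⟨T, hT⟩ := hR.exists_le_sylow
  obtain ⟨n, ⟨e⟩⟩ := hQ T
  rcases Nat.eq_zero_or_pos n with rfl | hn
  · intro S
    exact ⟨(S.equiv T).trans e⟩
  exfalso
  have hne : x • T ≠ T := by
    intro h
    have hxT : x ∈ Subgroup.normalizer ((T : Subgroup G) : Set G) :=
      Sylow.smul_eq_iff_mem_normalizer.1 h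
    exact hnotcent (T : Subgroup G) hxT hT
      (CfsgLib.PGroups.mulAut_eq_one_of_quaternion (m := n + 1) (by omega) e _ (hodd _ hxT))
  haveI := hC (x • T) T hne
  have hle : R ≤ ((x • T : Sylow 2 G) : Subgroup G) ⊓ (T : Subgroup G) := by
    refine le_inf (fun r hr => ?_) hT
    rw [Sylow.coe_subgroup_smul, Subgroup.mem_pointwise_smul_iff_inv_smul_mem, MulAut.smul_def]
    refine hT ?_
    have := (Subgroup.mem_normalizer_iff.1 (inv_mem hxN) r).1 hr
    simpa using this
  haveI : IsCyclic R := isCyclic_of_injective (Subgroup.inclusion hle) (Subgroup.inclusion_injective hle)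
  exact hnotcent R hxN le_rfl (CfsgLib.PGroups.mulAut_eq_one_of_cyclic hR _ (hodd R hxN))

/-- Dividing by a central subgroup of order two keeps the odd core trivial. -/
theorem oddCore_quotient_two_eq_bot (hO : Cfsg.oddCore G = ⊥) (Z : Subgroup G) [Z.Normal]
    (hc : Z ≤ Subgroup.center G) (hZ2 : Nat.card Z = 2) : Cfsg.oddCore (G ⧸ Z) = ⊥ := by
  set ρ := QuotientGroup.mk' Z with hρ
  have hρs : Function.Surjective ρ := QuotientGroup.mk'_surjective Z
  refine CfsgLib.Cores.oddCore_eq_bot_iff.2 fun N hN ho => ?_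
  set M := N.comap ρ with hM
  haveI : M.Normal := hN.comap ρ
  have hZM : Z ≤ M := by
    intro z hz
    show ρ z ∈ N
    rw [hρ, QuotientGroup.mk'_apply, (QuotientGroup.eq_one_iff z).2 hz]
    exact one_mem N
  have hidx : (Z.subgroupOf M).index = Nat.card N := by
    have h1 := Subgroup.card_mul_index (ρ.comp M.subtype).ker
    have h2 : (ρ.comp M.subtype).ker = Z.subgroupOf M := by
      rw [← MonoidHom.comap_ker, QuotientGroup.ker_mk']; rfl
    rw [← h2, Subgroup.index_ker, MonoidHom.range_comp, Subgroup.range_subtype, hM,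
      Subgroup.map_comap_eq_self_of_surjective hρs]
  have hcard2 : Nat.card (Z.subgroupOf M) = 2 :=
    (Nat.card_congr (Subgroup.subgroupOfEquivOfLe hZM).toEquiv).trans hZ2
  obtain ⟨K, hK⟩ := Subgroup.exists_left_complement'_of_coprime (N := Z.subgroupOf M)
    (by rw [hcard2, hidx]; exact Nat.coprime_two_left.2 ho)
  have hKcard : Nat.card K = Nat.card N := by
    have := hK.index_eq_card
    rw [hidx] at this; exact this.symm
  have hmem : ∀ m : M, m ∈ K ↔ m ^ Nat.card N = 1 := by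
    intro m
    refine ⟨fun hm => ?_, fun hm => ?_⟩
    · have := congrArg Subtype.val (pow_card_eq_one' (G := K) (x := ⟨m, hm⟩))
      rwa [SubmonoidClass.coe_pow, OneMemClass.coe_one, hKcard] at this
    · obtain ⟨⟨⟨k, hk⟩, ⟨z, hz⟩⟩, he⟩ := hK.2 m
      have he' : k * z = m := he
      subst he'
      have hcz : Commute k z := Subtype.ext
        (Subgroup.mem_center_iff.1 (hc (Subgroup.mem_subgroupOf.1 hz)) (k : G))
      have hkN : k ^ Nat.card N = 1 := by
        have := congrArg Subtype.val (pow_card_eq_one' (G := K) (x := ⟨k, hk⟩))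
        rwa [SubmonoidClass.coe_pow, OneMemClass.coe_one, hKcard] at this
      rw [hcz.mul_pow, hkN, one_mul] at hm
      have hz2 : z ^ 2 = 1 := by
        have := congrArg Subtype.val (pow_card_eq_one' (G := Z.subgroupOf M) (x := ⟨z, hz⟩))
        rwa [SubmonoidClass.coe_pow, OneMemClass.coe_one, hcard2] at this
      have : z = 1 := by
        rw [← orderOf_eq_one_iff]
        exact Nat.eq_one_of_dvd_coprimes (Nat.coprime_two_left.2 ho)
          (orderOf_dvd_of_pow_eq_one hz2) (orderOf_dvd_of_pow_eq_one hm)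
      rw [this, mul_one]; exact hk
  haveI : (K.map M.subtype).Normal := by
    constructor
    rintro _ ⟨k, hk, rfl⟩ g
    refine ⟨⟨g * k * g⁻¹, Subgroup.Normal.conj_mem inferInstance _ k.2 g⟩, ?_, rfl⟩
    refine (hmem _).2 (Subtype.ext ?_)
    have := congrArg Subtype.val ((hmem k).1 hk)
    rw [SubmonoidClass.coe_pow, OneMemClass.coe_one] at this ⊢
    rw [conj_pow, this, mul_one, mul_inv_cancel]
  have hb : K.map M.subtype = ⊥ := CfsgLib.Cores.oddCore_eq_bot_iff.1 hO _ inferInstance (by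
    rw [Subgroup.card_map_of_injective M.subtype_injective, hKcard]; exact ho)
  rw [Subgroup.map_eq_bot_iff_of_injective _ M.subtype_injective] at hb
  rw [hb, Subgroup.card_bot] at hKcard
  exact Subgroup.card_eq_one.1 hKcard.symm

/-- `|PSL(2, q)|` is not divisible by 8 only for `q ≡ 3, 5 (mod 8)`. -/
theorem mod_eight_of_not_dvd {F : Type} [Field F] [Fintype F] (hodd : Odd (Fintype.card F))
    (h : ¬ 8 ∣ Nat.card (Matrix.ProjectiveSpecialLinearGroup (Fin 2) F)) :
    Fintype.card F % 8 = 3 ∨ Fintype.card F % 8 = 5 := by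
  rw [CfsgLib.SL2.card_PSL, Nat.card_eq_fintype_card (α := F)] at h
  obtain ⟨j, hj⟩ := hodd
  set q := Fintype.card F
  rw [Nat.gcd_eq_left (show 2 ∣ q - 1 from ⟨j, by omega⟩)] at h
  by_contra hmod
  push Not at hmod
  obtain ⟨k, hk | hk⟩ : ∃ k, q = 8 * k + 1 ∨ q = 8 * k + 7 := ⟨q / 8, by omega⟩
  · refine h ⟨(8 * k + 1) * (k * (4 * k + 1)), ?_⟩
    rw [hk]
    have e1 : (8 * k + 1) ^ 2 - 1 = 16 * (k * (4 * k + 1)) := by
      have : (8 * k + 1) ^ 2 = 16 * (k * (4 * k + 1)) + 1 := by ring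
      omega
    rw [e1]
    have e2 : (8 * k + 1) * (16 * (k * (4 * k + 1))) = (8 * ((8 * k + 1) * (k * (4 * k + 1)))) * 2 := by
      ring
    rw [e2, Nat.mul_div_cancel _ two_pos]
  · refine h ⟨(8 * k + 7) * ((k + 1) * (4 * k + 3)), ?_⟩
    rw [hk]
    have e1 : (8 * k + 7) ^ 2 - 1 = 16 * ((k + 1) * (4 * k + 3)) := by
      have : (8 * k + 7) ^ 2 = 16 * ((k + 1) * (4 * k + 3)) + 1 := by ring
      omega
    rw [e1]
    have e2 : (8 * k + 7) * (16 * ((k + 1) * (4 * k + 3))) =
        (8 * ((8 * k + 7) * ((k + 1) * (4 * k + 3)))) * 2 := by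
      ring
    rw [e2, Nat.mul_div_cancel _ two_pos]

/-- `4` divides `|PSL(2, q)|` for odd `q`. -/
theorem four_dvd_card_psl {F : Type} [Field F] [Fintype F] (hodd : Odd (Fintype.card F)) :
    4 ∣ Nat.card (Matrix.ProjectiveSpecialLinearGroup (Fin 2) F) := by
  rw [CfsgLib.SL2.card_PSL, Nat.card_eq_fintype_card (α := F)]
  obtain ⟨j, hj⟩ := hodd
  rw [hj, Nat.gcd_eq_left (show 2 ∣ 2 * j + 1 - 1 from ⟨j, by omega⟩)]
  obtain ⟨l, hl⟩ := Nat.even_mul_succ_self j
  have e1 : (2 * j + 1) ^ 2 - 1 = 8 * l := by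
    have : (2 * j + 1) ^ 2 = 4 * (j * (j + 1)) + 1 := by ring
    omega
  rw [e1, show (2 * j + 1) * (8 * l) = (4 * ((2 * j + 1) * l)) * 2 by ring, Nat.mul_div_cancel _ two_pos]
  exact dvd_mul_right _ _

/-- **Conditional form of the quaternion structure theorem.** -/
theorem sl_section_of_quaternion (hGW : DihedralPerfect.{u}) (hns : ¬ Group.IsSolvable G)
    (hQ : ∀ S : Sylow 2 G, Nonempty (↥(S : Subgroup G) ≃* QuaternionGroup 2)) :
    ∃ (G₁ : Subgroup G) (_ : G₁.Normal) (_ : ((Cfsg.oddCore G).subgroupOf G₁).Normal),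
      Odd G₁.index ∧ Cfsg.oddCore G ≤ G₁ ∧
      ∃ (F : Type) (_ : Field F) (_ : Fintype F),
        (Fintype.card F % 8 = 3 ∨ Fintype.card F % 8 = 5) ∧ 3 < Fintype.card F ∧
        Nonempty (↥G₁ ⧸ (Cfsg.oddCore G).subgroupOf G₁ ≃* Matrix.SpecialLinearGroup (Fin 2) F) := by
  haveI : Fact (Nat.Prime 2) := ⟨Nat.prime_two⟩
  set O := Cfsg.oddCore G with hOdef
  haveI : O.Normal := inferInstance
  have hOodd : Odd (Nat.card O) := CfsgLib.Cores.odd_card_oddCore
  set π := QuotientGroup.mk' O with hπ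
  have hπs : Function.Surjective π := QuotientGroup.mk'_surjective O
  have hOQ : Cfsg.oddCore (G ⧸ O) = ⊥ := CfsgLib.Cores.pPrimeCore_quotient_pPrimeCore 2
  -- the Sylow 2-subgroups of the quotient
  have hQ' : ∀ S : Sylow 2 (G ⧸ O), Nonempty (↥(S : Subgroup (G ⧸ O)) ≃* QuaternionGroup 2) := by
    intro S
    obtain ⟨P⟩ : Nonempty (Sylow 2 G) := inferInstance
    obtain ⟨e⟩ := hQ P
    have hinj := GW.mk_injective_on_pgroup P.isPGroup' O hOodd
    let f : (P : Subgroup G) ≃* (P : Subgroup G).map π :=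
      (MonoidHom.ofInjective hinj).trans (MulEquiv.subgroupCongr (by
        rw [MonoidHom.range_comp, Subgroup.range_subtype]))
    exact ⟨(S.equiv (P.mapSurjective hπs)).trans
      ((MulEquiv.subgroupCongr (Sylow.coe_mapSurjective _ P)).trans (f.symm.trans e))⟩
  obtain ⟨S⟩ : Nonempty (Sylow 2 (G ⧸ O)) := inferInstance
  obtain ⟨eS⟩ := hQ' S
  have hS8 : Nat.card (S : Subgroup (G ⧸ O)) = 8 :=
    (Nat.card_congr eS.toEquiv).trans card_quaternion_two
  set Z := Subgroup.center (G ⧸ O) with hZ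
  have hZ2 : Nat.card Z = 2 := CfsgLib.Involutions.brauer_suzuki S le_rfl eS hOQ
  have hZS : ∀ P : Sylow 2 (G ⧸ O), Z ≤ (P : Subgroup (G ⧸ O)) := fun P =>
    (IsPGroup.of_card (G := Z) (p := 2) (n := 1) (by rw [hZ2, pow_one])).le_sylow_of_normal P
  -- every involution is central
  have hinv : ∀ c : G ⧸ O, orderOf c = 2 → c ∈ Z := by
    intro c hc
    have hp : IsPGroup 2 (Subgroup.zpowers c) :=
      IsPGroup.of_card (n := 1) (by rw [Nat.card_zpowers, hc, pow_one])
    obtain ⟨P, hP⟩ := hp.exists_le_sylow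
    obtain ⟨e⟩ := hQ' P
    obtain ⟨z, hz⟩ := exists_prime_orderOf_dvd_card' (G := Z) 2 (by rw [hZ2])
    have hz' : orderOf (z : G ⧸ O) = 2 := (Subgroup.orderOf_coe z).trans hz
    have hu := (CfsgLib.TwoGroups.uniqueOrderP_iff_unique_involution (G := QuaternionGroup 2)).1
      (Cfsg.Agent.S0106.uniqueOrderP_quaternion 2)
    have h1 := hu (e ⟨c, hP (Subgroup.mem_zpowers c)⟩) (e ⟨z, hZS P z.2⟩)
      (by rw [e.orderOf_eq, Subgroup.orderOf_mk, hc]) (by rw [e.orderOf_eq, Subgroup.orderOf_mk, hz'])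
    have h2 : c = (z : G ⧸ O) := congrArg Subtype.val (e.injective h1)
    exact h2 ▸ z.2
  set ρ := QuotientGroup.mk' Z with hρ
  have hρs : Function.Surjective ρ := QuotientGroup.mk'_surjective Z
  -- the quotient by the centre
  have hcardH : Nat.card ((G ⧸ O) ⧸ Z) * 2 = Nat.card (G ⧸ O) := by
    rw [← hZ2]; exact (Subgroup.card_eq_card_quotient_mul_card_subgroup Z).symm
  have hH4 : ¬ 8 ∣ Nat.card ((G ⧸ O) ⧸ Z) := by
    intro h8
    have h16 : 2 ^ 4 ∣ Nat.card (G ⧸ O) := by
      rw [← hcardH]; exact (show 2 ^ 4 = 8 * 2 from rfl) ▸ mul_dvd_mul_right h8 2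
    have h := S.pow_dvd_card_of_pow_dvd_card h16
    rw [hS8] at h
    norm_num at h
  set T := S.mapSurjective hρs with hTdef
  have hTcard : Nat.card (T : Subgroup ((G ⧸ O) ⧸ Z)) = 4 := by
    have h1 := Subgroup.card_mul_index (ρ.comp (S : Subgroup (G ⧸ O)).subtype).ker
    rw [Subgroup.index_ker, MonoidHom.range_comp, Subgroup.range_subtype, hS8,
      ← Sylow.coe_mapSurjective hρs S, ← MonoidHom.comap_ker, QuotientGroup.ker_mk'] at h1
    have h2 : Nat.card (Z.comap (S : Subgroup (G ⧸ O)).subtype) = 2 := by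
      exact (Nat.card_congr (Subgroup.subgroupOfEquivOfLe (hZS S)).toEquiv).trans hZ2
    rw [h2] at h1
    rw [hTdef]; omega
  have hTnc : ¬ IsCyclic (T : Subgroup ((G ⧸ O) ⧸ Z)) := by
    intro hc
    let f : (S : Subgroup (G ⧸ O)) →* (T : Subgroup ((G ⧸ O) ⧸ Z)) :=
      ((MulEquiv.subgroupCongr (Sylow.coe_mapSurjective hρs S)).symm.toMonoidHom).comp
        (ρ.subgroupMap (S : Subgroup (G ⧸ O)))
    have hf : f.ker ≤ Subgroup.center (S : Subgroup (G ⧸ O)) := by
      intro a ha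
      have h1 : ρ (a : G ⧸ O) = 1 := congrArg Subtype.val ha
      rw [QuotientGroup.mk'_apply, QuotientGroup.eq_one_iff] at h1
      exact Subgroup.mem_center_iff.2 fun b => Subtype.ext (Subgroup.mem_center_iff.1 h1 b)
    have hcomm := fun a b : QuaternionGroup 2 =>
      congrArg eS (commutative_of_cyclic_center_quotient f hf (eS.symm a) (eS.symm b))
    simp only [map_mul, MulEquiv.apply_symm_apply] at hcomm
    exact absurd (hcomm (QuaternionGroup.a 1) (QuaternionGroup.xa 0)) (by decide)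
  have hdH : GW.HasDihedralSylow ((G ⧸ O) ⧸ Z) := by
    refine ⟨T, 2, le_rfl, ?_⟩
    haveI : IsKleinFour (T : Subgroup ((G ⧸ O) ⧸ Z)) :=
      ⟨hTcard, (not_isCyclic_iff_exponent_eq_prime Nat.prime_two (by rw [hTcard]; norm_num)).1 hTnc⟩
    exact IsKleinFour.nonempty_mulEquiv
  -- odd core and solvability
  have hOH : Cfsg.oddCore ((G ⧸ O) ⧸ Z) = ⊥ := oddCore_quotient_two_eq_bot hOQ Z le_rfl hZ2
  haveI : Group.IsSolvable O := Cfsg.Agent.S0205.result hOodd
  have hnsH : ¬ Group.IsSolvable ((G ⧸ O) ⧸ Z) := by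
    intro h
    haveI := h
    haveI : Group.IsSolvable Z := Group.isSolvable_of_comm fun a b =>
      Subtype.ext ((Subgroup.mem_center_iff.1 b.2 (a : G ⧸ O)))
    haveI : Group.IsSolvable (G ⧸ O) := Group.isSolvable_of_ker_le_range Z.subtype ρ
      (by rw [QuotientGroup.ker_mk', Subgroup.range_subtype])
    exact hns (Group.isSolvable_of_ker_le_range O.subtype π
      (by rw [QuotientGroup.ker_mk', Subgroup.range_subtype]))
  set L := perfectCore ((G ⧸ O) ⧸ Z) with hL
  have hLH := Subgroup.card_subgroup_dvd_card L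
  rcases perfectCore_gw hGW hdH hOH hnsH with ⟨F, iF, iT, hodd, h3, ⟨e⟩⟩ | ⟨⟨e⟩⟩
  swap
  · exfalso
    refine hH4 (dvd_trans ?_ hLH)
    rw [Nat.card_congr e.toEquiv]
    have h7 := two_mul_nat_card_alternatingGroup (α := Fin 7)
    rw [Nat.card_perm, Nat.card_eq_fintype_card (α := Fin 7), Fintype.card_fin,
      show Nat.factorial 7 = 5040 from rfl] at h7
    exact ⟨315, by omega⟩
  have hL8 : ¬ 8 ∣ Nat.card (Matrix.ProjectiveSpecialLinearGroup (Fin 2) F) := by
    intro h
    have hce := Nat.card_congr e.toEquiv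
    exact hH4 ((hce ▸ h : 8 ∣ Nat.card L).trans hLH)
  have hmod := mod_eight_of_not_dvd hodd hL8
  have hLodd : Odd L.index := by
    rw [← Nat.not_even_iff_odd]
    intro he
    apply hH4
    rw [← L.card_mul_index]
    exact (show (8 : ℕ) = 4 * 2 from rfl) ▸ mul_dvd_mul
      (by rw [Nat.card_congr e.toEquiv]; exact four_dvd_card_psl hodd) (even_iff_two_dvd.1 he)
  set K := L.comap ρ with hK
  haveI : K.Normal := inferInstance
  set G₁ := K.comap π with hG₁
  have hOG₁ : O ≤ G₁ := by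
    rw [hG₁]; conv_lhs => rw [← QuotientGroup.ker_mk' O]
    exact Subgroup.ker_le_comap π K
  -- the perfect double cover
  let ρK : K →* L := (ρ.comp K.subtype).codRestrict L fun k => k.2
  let σ : K →* Matrix.ProjectiveSpecialLinearGroup (Fin 2) F := e.toMonoidHom.comp ρK
  have hσker : ∀ k : K, k ∈ σ.ker ↔ (k : G ⧸ O) ∈ Z := fun k => by
    rw [MonoidHom.mem_ker, ← QuotientGroup.ker_mk' Z, MonoidHom.mem_ker]
    show e (ρK k) = 1 ↔ _
    rw [MulEquiv.map_eq_one_iff]
    exact Subtype.ext_iff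
  have hσs : Function.Surjective σ := by
    refine e.surjective.comp fun l => ?_
    obtain ⟨g, hg⟩ := hρs l
    exact ⟨⟨g, by show ρ g ∈ L; rw [hg]; exact l.2⟩, Subtype.ext hg⟩
  have hσc : σ.ker ≤ Subgroup.center K := fun k hk => Subgroup.mem_center_iff.2 fun j =>
    Subtype.ext (Subgroup.mem_center_iff.1 ((hσker k).1 hk) j)
  have hZK : Z ≤ K := by
    rw [hK]; conv_lhs => rw [← QuotientGroup.ker_mk' Z]
    exact Subgroup.ker_le_comap ρ L
  have hσ2 : Nat.card σ.ker = 2 := by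
    have : σ.ker = Z.subgroupOf K := Subgroup.ext fun k => (hσker k).trans Subgroup.mem_subgroupOf.symm
    rw [this, Nat.card_congr (Subgroup.subgroupOfEquivOfLe hZK).toEquiv, hZ2]
  have hperfL : commutator (Matrix.ProjectiveSpecialLinearGroup (Fin 2) F) = ⊤ := by
    haveI := CfsgLib.Cores.isPerfect_perfectCore ((G ⧸ O) ⧸ Z)
    haveI : Group.IsPerfect (Matrix.ProjectiveSpecialLinearGroup (Fin 2) F) :=
      Group.IsPerfect.ofSurjective (f := e.toMonoidHom) e.surjective
    exact Group.IsPerfect.commutator_eq_top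
  have hmapC : (commutator K).map σ = ⊤ := by
    rw [commutator_def, Subgroup.map_commutator, ← MonoidHom.range_eq_map,
      MonoidHom.range_eq_top.2 hσs, ← commutator_def, hperfL]
  have hKperf : commutator K = ⊤ := by
    have hle : σ.ker ≤ commutator K := by
      obtain ⟨c, hc⟩ := exists_prime_orderOf_dvd_card' (G := Matrix.ProjectiveSpecialLinearGroup (Fin 2) F) 2
        (dvd_trans (by norm_num) (four_dvd_card_psl hodd))
      obtain ⟨d, hd, hdc⟩ := hmapC.ge (Subgroup.mem_top c)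
      intro k hk
      by_contra hkn
      have hd2 : d ^ 2 ∈ σ.ker := by
        rw [MonoidHom.mem_ker, map_pow, hdc, ← orderOf_dvd_iff_pow_eq_one, hc]
      have hcases : ∀ m ∈ σ.ker, m = 1 ∨ m = k := by
        intro m hm
        by_contra hno
        push Not at hno
        have h2 := hσ2
        rw [← SetLike.coe_sort_coe, Nat.card_coe_set_eq] at h2
        have hsub : ({1, m, k} : Set K) ⊆ (σ.ker : Set K) := by
          rintro a (rfl | rfl | rfl)
          exacts [one_mem _, hm, hk]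
        have hk1 : k ≠ 1 := fun h => hkn (h ▸ one_mem _)
        have h3 := Set.ncard_le_ncard hsub (Set.toFinite _)
        rw [Set.ncard_eq_three.2 ⟨1, m, k, hno.1.symm, hk1.symm, hno.2, rfl⟩, h2] at h3
        omega
      rcases hcases _ hd2 with h | h
      · have hd1 : orderOf (d : G ⧸ O) = 2 := by
          refine orderOf_eq_prime (by rw [← SubmonoidClass.coe_pow, h, OneMemClass.coe_one]) fun h1 => ?_
          rw [show d = 1 from Subtype.ext h1, map_one] at hdc
          rw [← hdc, orderOf_one] at hc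
          omega
        have hdk : d ∈ σ.ker := (hσker d).2 (hinv _ hd1)
        rw [MonoidHom.mem_ker, hdc] at hdk
        rw [hdk, orderOf_one] at hc
        omega
      · exact hkn (h ▸ pow_mem hd 2)
    refine top_le_iff.1 fun k _ => ?_
    obtain ⟨d, hd, hdk⟩ := hmapC.ge (Subgroup.mem_top (σ k))
    have : d⁻¹ * k ∈ σ.ker := by rw [MonoidHom.mem_ker, map_mul, map_inv, hdk, inv_mul_cancel]
    simpa using mul_mem hd (hle this)
  obtain ⟨eK⟩ := nonempty_mulEquiv_sl hodd h3 σ hσs hσc hσ2 hKperf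
  let ψ : G₁ →* K := (π.comp G₁.subtype).codRestrict K fun g => g.2
  have hψs : Function.Surjective ψ := fun k => by
    obtain ⟨g, hg⟩ := hπs (k : G ⧸ O)
    exact ⟨⟨g, by show π g ∈ K; rw [hg]; exact k.2⟩, Subtype.ext hg⟩
  have hψker : ψ.ker = O.subgroupOf G₁ := by
    refine Subgroup.ext fun g => ?_
    rw [MonoidHom.mem_ker, Subgroup.mem_subgroupOf, Subtype.ext_iff]
    exact QuotientGroup.eq_one_iff (g : G)
  refine ⟨G₁, inferInstance, inferInstance, ?_, hOG₁, F, iF, iT, hmod, h3, ?_⟩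
  · rw [hG₁, Subgroup.index_comap_of_surjective _ hπs, hK, Subgroup.index_comap_of_surjective _ hρs]
    exact hLodd
  · exact ⟨((QuotientGroup.quotientMulEquivOfEq hψker.symm).trans
      (QuotientGroup.quotientKerEquivOfSurjective ψ hψs)).trans eK⟩

end CfsgLib.GWApps

namespace CfsgLib.GWApps

universe v

/-- The form of statement S3307. -/
theorem quaternion_cyclic_intersections {G : Type v} [Group G] [Finite G]
    (hGW : DihedralPerfect.{v}) (hns : ¬ Group.IsSolvable G)
    (hQ : ∀ S : Sylow 2 G, ∃ n : ℕ, Nonempty (↥(S : Subgroup G) ≃* QuaternionGroup (2 ^ (n + 1))))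
    (hC : ∀ S T : Sylow 2 G, S ≠ T → IsCyclic ↥((S : Subgroup G) ⊓ (T : Subgroup G))) :
    (∀ S : Sylow 2 G, Nonempty (↥(S : Subgroup G) ≃* QuaternionGroup 2)) ∧
    ∃ (G₁ : Subgroup G) (_ : G₁.Normal) (_ : ((Cfsg.oddCore G).subgroupOf G₁).Normal),
      Odd G₁.index ∧ Cfsg.oddCore G ≤ G₁ ∧
      ∃ (F : Type) (_ : Field F) (_ : Fintype F),
        (Fintype.card F % 8 = 3 ∨ Fintype.card F % 8 = 5) ∧ 3 < Fintype.card F ∧
        Nonempty (↥G₁ ⧸ (Cfsg.oddCore G).subgroupOf G₁ ≃* Matrix.SpecialLinearGroup (Fin 2) F) :=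
  ⟨quaternion_eight hns hQ hC, sl_section_of_quaternion hGW hns (quaternion_eight hns hQ hC)⟩

end CfsgLib.GWApps
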