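import Cfsg.Agent.Lib.GW.Reduction
import Cfsg.Agent.Lib.Cores.PerfectCore

/-!
# Consequences of the Gorenstein-Walter theorem: common part

The theorem enters as the hypothesis `DihedralPerfect`, which has the content of statement S0483.
-/

set_option autoImplicit false
open Cfsg

namespace CfsgLib.GWApps

universe u

/-- The Gorenstein-Walter theorem for perfect groups, as a proposition. -/
def DihedralPerfect : Prop :=
  ∀ (X : Type u) [Group X] [Finite X] [Group.IsPerfect X], GW.HasDihedralSylow X → GW.GWConclusion X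

variable {G : Type u} [Group G] [Finite G]

/-- A nontrivial perfect subgroup of a group with dihedral Sylow 2-subgroups has dihedral ones. -/
theorem hasDihedralSylow_of_perfect (hd : GW.HasDihedralSylow G) (N : Subgroup G)
    [Group.IsPerfect N] (hne : N ≠ ⊥) : GW.HasDihedralSylow N := by
  obtain ⟨S, n, hn, ⟨e⟩⟩ := hd
  haveI : NeZero n := ⟨by omega⟩
  haveI : Fact (Nat.Prime 2) := ⟨Nat.prime_two⟩
  obtain ⟨P⟩ : Nonempty (Sylow 2 N) := inferInstance
  haveI : Nontrivial N := (Subgroup.nontrivial_iff_ne_bot N).2 hne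
  have heven : Even (Nat.card N) := by
    by_contra hodd
    exact Group.IsPerfect.not_isSolvable N (Cfsg.Agent.S0205.result (Nat.not_even_iff_odd.1 hodd))
  have hnc := CfsgLib.Signalizer.not_isCyclic_sylow (Group.IsPerfect.commutator_eq_top (G := N)) heven P
  obtain ⟨T, hT⟩ := (P.isPGroup'.map N.subtype).exists_le_sylow
  let f : (T : Subgroup G) ≃* DihedralGroup n := (T.equiv S).trans e
  let g : (P : Subgroup N) →* DihedralGroup n := f.toMonoidHom.comp
    ((Subgroup.inclusion hT).comp
      (Subgroup.equivMapOfInjective _ _ N.subtype_injective).toMonoidHom)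
  have hg : Function.Injective g := f.injective.comp ((Subgroup.inclusion_injective hT).comp
    (Subgroup.equivMapOfInjective (P : Subgroup N) _ N.subtype_injective).injective)
  let eg : (P : Subgroup N) ≃* g.range := MonoidHom.ofInjective hg
  obtain ⟨m, hm, ⟨e'⟩⟩ := GW.dihedral_of_not_isCyclic g.range fun h =>
    hnc (isCyclic_of_surjective eg.symm.toMonoidHom eg.symm.surjective)
  exact ⟨P, m, hm, ⟨eg.trans e'⟩⟩

variable (hGW : DihedralPerfect.{u})
include hGW

/-- The solvable residual of a nonsolvable group with dihedral Sylow 2-subgroups and trivial odd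
core is `PSL₂(q)` or the alternating group of degree 7. -/
theorem perfectCore_gw (hd : GW.HasDihedralSylow G) (hO : Cfsg.oddCore G = ⊥)
    (hns : ¬ Group.IsSolvable G) : GW.IsGWGroup (perfectCore G) := by
  haveI := CfsgLib.Cores.isPerfect_perfectCore G
  have hne : perfectCore G ≠ ⊥ := fun h => hns (CfsgLib.Cores.perfectCore_eq_bot_iff.1 h)
  have hbot : Cfsg.oddCore (perfectCore G) = ⊥ := by
    refine CfsgLib.Cores.oddCore_eq_bot_iff.2 fun M hM ho => ?_
    haveI := hM
    have hMle : M ≤ Cfsg.oddCore (perfectCore G) := CfsgLib.Cores.le_oddCore ho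
    have hchar : (Cfsg.oddCore (perfectCore G)).Characteristic :=
      CfsgLib.Cores.pPrimeCore_characteristic 2 (perfectCore G)
    haveI : ((Cfsg.oddCore (perfectCore G)).map (perfectCore G).subtype).Normal := inferInstance
    have h1 : (Cfsg.oddCore (perfectCore G)).map (perfectCore G).subtype = ⊥ :=
      CfsgLib.Cores.oddCore_eq_bot_iff.1 hO _ inferInstance (by
        rw [Subgroup.card_map_of_injective (perfectCore G).subtype_injective]
        exact CfsgLib.Cores.odd_card_oddCore)
    rw [Subgroup.map_eq_bot_iff_of_injective _ (perfectCore G).subtype_injective] at h1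
    exact le_bot_iff.1 (h1 ▸ hMle)
  have h := hGW (perfectCore G) (hasDihedralSylow_of_perfect hd _ hne)
  exact GW.IsGWGroup.of_equiv
    ((QuotientGroup.quotientBot).symm.trans (QuotientGroup.quotientMulEquivOfEq hbot.symm)) h

omit hGW in
/-- In a group with dihedral Sylow 2-subgroups and trivial odd core the centraliser of the solvable
residual is trivial, if the group is not solvable. -/
theorem centralizer_perfectCore_eq_bot (hd : GW.HasDihedralSylow G) (hO : Cfsg.oddCore G = ⊥)
    (hns : ¬ Group.IsSolvable G) :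
    Subgroup.centralizer (perfectCore G : Set G) = ⊥ := by
  haveI : Fact (Nat.Prime 2) := ⟨Nat.prime_two⟩
  haveI := CfsgLib.Cores.isPerfect_perfectCore G
  set L := perfectCore G with hL
  have hne : L ≠ ⊥ := fun h => hns (CfsgLib.Cores.perfectCore_eq_bot_iff.1 h)
  haveI : L.Normal := inferInstance
  haveI : (Subgroup.centralizer (L : Set G)).Normal := inferInstance
  by_contra hC
  have h2 : 2 ∣ Nat.card (Subgroup.centralizer (L : Set G)) := even_iff_two_dvd.1
    (Nat.not_odd_iff_even.1 fun ho =>
      hC (CfsgLib.Cores.oddCore_eq_bot_iff.1 hO _ inferInstance ho))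
  obtain ⟨c, hc⟩ := exists_prime_orderOf_dvd_card' 2 h2
  have hc2 : orderOf (c : G) = 2 := (Subgroup.orderOf_coe c).trans hc
  have hcomm : ∀ x ∈ L, (c : G) * x = x * c := fun x hx =>
    (Subgroup.mem_centralizer_iff.1 c.2 x hx).symm
  have hdL := hasDihedralSylow_of_perfect hd L hne
  have hcL : (c : G) ∉ L := fun h =>
    GW.no_central_involution hdL (t := (⟨c, h⟩ : L)) (by rw [Subgroup.orderOf_mk]; exact hc2)
      (Subgroup.mem_center_iff.2 fun x => Subtype.ext (hcomm x x.2).symm)
  obtain ⟨P, k, hk, ⟨eP⟩⟩ := hdL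
  obtain ⟨u, v, hu, hv, huv, hcuv⟩ := GW.exists_commuting_involutions P.isPGroup' hk eP
  have hu' : orderOf ((u : L) : G) = 2 := by rw [Subgroup.orderOf_coe, Subgroup.orderOf_coe, hu]
  have hv' : orderOf ((v : L) : G) = 2 := by rw [Subgroup.orderOf_coe, Subgroup.orderOf_coe, hv]
  have h := GW.no_three_of_hasDihedralSylow hd hu' hv' hc2
    (congrArg (fun p : (P : Subgroup L) => ((p : L) : G)) hcuv)
    (hcomm _ (u : L).2).symm (hcomm _ (v : L).2).symm
    (fun h => huv (Subtype.ext (Subtype.ext h)))
    (fun h => hcL (h ▸ (u : L).2)) (fun h => hcL (h ▸ (v : L).2))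
  exact hcL (h ▸ mul_mem (u : L).2 (v : L).2)

omit hGW in
/-- Dihedral Sylow 2-subgroups survive in the quotient by an odd normal subgroup. -/
theorem hasDihedralSylow_quotient (hd : GW.HasDihedralSylow G) (O : Subgroup G) [O.Normal]
    (hO : Odd (Nat.card O)) : GW.HasDihedralSylow (G ⧸ O) := by
  obtain ⟨S, n, hn, ⟨e⟩⟩ := hd
  have hinj := GW.mk_injective_on_pgroup S.isPGroup' O hO
  let f : (S : Subgroup G) ≃* (S : Subgroup G).map (QuotientGroup.mk' O) :=
    (MonoidHom.ofInjective hinj).trans (MulEquiv.subgroupCongr (by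
      rw [MonoidHom.range_comp, Subgroup.range_subtype]))
  exact ⟨S.mapSurjective (QuotientGroup.mk'_surjective O), n, hn,
    ⟨(MulEquiv.subgroupCongr (Sylow.coe_mapSurjective _ S)).trans (f.symm.trans e)⟩⟩

end CfsgLib.GWApps
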