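import Cfsg.Agent.Lib.GWApps.RankTwoSimple
import Cfsg.Agent.Lib.GWApps.Basic
import Cfsg.Agent.Lib.Cores.GenFitting
import Cfsg.Agent.Lib.SL2.Torus
import Cfsg.Agent.Lib.SL2.Dickson.Main
import Cfsg.Agent.S0811
import Cfsg.Agent.S0812
import Cfsg.Agent.S0253
import Cfsg.Agent.S0255
import Cfsg.Prelude.Def_CaseTheorems

/-!
# Simple groups with dihedral Sylow 2-subgroups and a non-maximal involution centraliser

S3287, given the Gorenstein-Walter theorem: in `PSL₂(q)`, `q` odd, `q ≥ 11`, the centraliser of an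
involution is the normaliser of a torus of order prime to `q`, a maximal subgroup.
-/

set_option autoImplicit false
set_option linter.style.haveILetI false
open Cfsg

namespace CfsgLib.GWApps.Component

universe u v

section PSL

variable {F : Type v} [Field F] [Fintype F]

local notation "SL₂F" => Matrix.SpecialLinearGroup (Fin 2) F
local notation "PSL₂F" => Matrix.ProjectiveSpecialLinearGroup (Fin 2) F

omit [Fintype F] in
/-- An involution of `PSL₂` lifts to an element of trace zero. -/
theorem exists_tr_zero {x : PSL₂F} (hx : orderOf x = 2) :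
    ∃ g : SL₂F, SL2.Dickson.proj g = x ∧ SL2.tr g = 0 := by
  obtain ⟨g, rfl⟩ := SL2.Dickson.proj_surjective x
  refine ⟨g, rfl, ?_⟩
  have hg : g ∉ Subgroup.center SL₂F := by
    intro h
    have h1 : SL2.Dickson.proj g = 1 := (QuotientGroup.eq_one_iff g).2 h
    rw [h1, orderOf_one] at hx
    omega
  have h2 : g * g ∈ Subgroup.center SL₂F := by
    refine (QuotientGroup.eq_one_iff (g * g)).1 ?_
    have := pow_orderOf_eq_one (SL2.Dickson.proj g)
    rw [hx, sq] at this
    rwa [← map_mul] at this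
  by_contra hne
  refine hg ((SL2.mem_center_iff_isScalarMat g).2 ?_)
  have h3 := (SL2.mem_center_iff_isScalarMat _).1 h2
  rw [SL2.IsScalarMat, Matrix.SpecialLinearGroup.coe_mul, SL2.mul_self_eq] at h3
  obtain ⟨h01, h10, hd⟩ := h3
  simp [hne] at h01 h10 hd
  exact ⟨h01, h10, hd⟩

theorem isConj_involutions (hodd : Odd (Fintype.card F)) {x y : PSL₂F} (hx : orderOf x = 2)
    (hy : orderOf y = 2) : IsConj x y := by
  have h2F : (2 : F) ≠ 0 := Ring.two_ne_zero fun h => by
    have := (FiniteField.even_card_iff_char_two (F := F)).1 h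
    rw [Nat.odd_iff] at hodd
    omega
  obtain ⟨g, rfl, hg⟩ := exists_tr_zero hx
  obtain ⟨g', rfl, hg'⟩ := exists_tr_zero hy
  refine MonoidHom.map_isConj SL2.Dickson.proj (SL2.isConj_of_tr_eq ?_ (hg'.trans hg.symm))
  rw [hg, zero_pow two_ne_zero, ← show (2 : F) * 2 = 4 by norm_num]
  exact (mul_ne_zero h2F h2F).symm

/-- The central involution of a dihedral group with even parameter. -/
theorem exists_central_involution {a : ℕ} (ha : 2 ∣ a) (ha0 : a ≠ 0) :
    ∃ z : DihedralGroup a, orderOf z = 2 ∧ ∀ x, x * z = z * x := by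
  obtain ⟨b, rfl⟩ := ha
  haveI : NeZero (2 * b) := ⟨ha0⟩
  have hbb : ((b : ZMod (2 * b)) + (b : ZMod (2 * b))) = 0 := by
    rw [← Nat.cast_add, ← two_mul, ZMod.natCast_self]
  have hb0 : (b : ZMod (2 * b)) ≠ 0 := by
    rw [Ne, ZMod.natCast_eq_zero_iff]
    intro h
    have := Nat.le_of_dvd (by omega) h
    omega
  refine ⟨DihedralGroup.r (b : ZMod (2 * b)), ?_, ?_⟩
  · haveI : Fact (Nat.Prime 2) := ⟨Nat.prime_two⟩
    refine orderOf_eq_prime ?_ ?_
    · rw [sq, DihedralGroup.r_mul_r, hbb, DihedralGroup.one_def]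
    · rw [DihedralGroup.one_def]
      exact fun h => hb0 (DihedralGroup.r.inj h)
  · rintro (i | i)
    · rw [DihedralGroup.r_mul_r, DihedralGroup.r_mul_r, add_comm]
    · rw [DihedralGroup.sr_mul_r, DihedralGroup.r_mul_sr, sub_eq_add_neg,
        ← eq_neg_of_add_eq_zero_left hbb]

/-- For odd `q ≥ 11` the centraliser of an involution of `PSL₂(q)` is maximal. -/
theorem centralizer_isCoatom (hodd : Odd (Fintype.card F)) (h11 : 11 ≤ Fintype.card F)
    {x : PSL₂F} (hx : orderOf x = 2) :
    IsCoatom (Subgroup.centralizer ({x} : Set PSL₂F)) := by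
  classical
  set q := Fintype.card F with hq
  have hq2 : q % 2 = 1 := Nat.odd_iff.1 hodd
  have hgcd : Nat.gcd 2 (q - 1) = 2 := Nat.gcd_eq_left (by omega)
  obtain ⟨H, hH, a, ⟨e⟩, ha, ha0⟩ :
      ∃ H : Subgroup PSL₂F, IsCoatom H ∧ ∃ a : ℕ, Nonempty (H ≃* DihedralGroup a) ∧ 2 ∣ a ∧ a ≠ 0 := by
    rcases (show q % 4 = 1 ∨ q % 4 = 3 by omega) with h | h
    · obtain ⟨H, hH, he⟩ := Cfsg.Agent.S0812.result (F := F) rfl (q := q) (by
        simp only [Finset.mem_insert, Finset.mem_singleton, not_or]; omega)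
      rw [hgcd] at he
      exact ⟨H, hH, _, he, by omega, by omega⟩
    · obtain ⟨H, hH, he⟩ := Cfsg.Agent.S0811.result (F := F) rfl (q := q) (by
        simp only [Finset.mem_insert, Finset.mem_singleton, not_or]; omega)
      rw [hgcd] at he
      exact ⟨H, hH, _, he, by omega, by omega⟩
  obtain ⟨z, hz, hzc⟩ := exists_central_involution ha ha0
  set w : PSL₂F := ((e.symm z : H) : PSL₂F) with hw
  have hw2 : orderOf w = 2 := by rw [hw, Subgroup.orderOf_coe, MulEquiv.orderOf_eq, hz]
  have hle : H ≤ Subgroup.centralizer ({w} : Set PSL₂F) := by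
    intro k hk
    rw [Subgroup.mem_centralizer_singleton_iff]
    have h1 : (⟨k, hk⟩ : H) * e.symm z = e.symm z * ⟨k, hk⟩ := e.injective (by
      rw [map_mul, map_mul, e.apply_symm_apply, hzc])
    exact congrArg Subtype.val h1
  have hne : Subgroup.centralizer ({w} : Set PSL₂F) ≠ ⊤ := by
    intro h
    have hwc : w ∈ Subgroup.center PSL₂F := Subgroup.centralizer_eq_top_iff_subset.1 h rfl
    haveI : IsSimpleGroup PSL₂F := CfsgLib.ClassicalLinear.isSimpleGroup_psl_fin le_rfl
      fun _ => by rw [Nat.card_eq_fintype_card]; omega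
    rcases (inferInstance : (Subgroup.center PSL₂F).Normal).eq_bot_or_eq_top with h' | h'
    · rw [h', Subgroup.mem_bot] at hwc
      rw [hwc, orderOf_one] at hw2
      omega
    · -- an abelian simple group has no proper nontrivial subgroup
      have hHn : H.Normal := ⟨fun b hb g => by
        rwa [Subgroup.mem_center_iff.1 (h' ▸ Subgroup.mem_top b : b ∈ Subgroup.center PSL₂F) g,
          mul_inv_cancel_right]⟩
      rcases hHn.eq_bot_or_eq_top with hb | ht
      · have : w ∈ H := (e.symm z).2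
        rw [hb, Subgroup.mem_bot] at this
        rw [this, orderOf_one] at hw2
        omega
      · exact hH.1 ht
  have heq : H = Subgroup.centralizer ({w} : Set PSL₂F) :=
    ((hH.le_iff.1 hle).resolve_left hne).symm
  obtain ⟨c, hc⟩ := isConj_iff.1 (isConj_involutions hodd hw2 hx)
  have hmap : Subgroup.centralizer ({x} : Set PSL₂F) = (MulAut.conj c).mapSubgroup H := by
    rw [heq, MulEquiv.mapSubgroup_apply]
    ext k
    rw [Subgroup.mem_map, ← hc]
    simp only [Subgroup.mem_centralizer_singleton_iff]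
    constructor
    · intro hk
      refine ⟨c⁻¹ * k * c, ?_, (MulAut.conj_apply c _).trans (by group)⟩
      calc c⁻¹ * k * c * w = c⁻¹ * (k * (c * w * c⁻¹)) * c := by group
        _ = c⁻¹ * ((c * w * c⁻¹) * k) * c := by rw [hk]
        _ = w * (c⁻¹ * k * c) := by group
    · rintro ⟨l, hl, rfl⟩
      show c * l * c⁻¹ * (c * w * c⁻¹) = c * w * c⁻¹ * (c * l * c⁻¹)
      calc c * l * c⁻¹ * (c * w * c⁻¹) = c * (l * w) * c⁻¹ := by group
        _ = c * (w * l) * c⁻¹ := by rw [hl]
        _ = c * w * c⁻¹ * (c * l * c⁻¹) := by group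
  rw [hmap]
  exact (OrderIso.isCoatom_iff (MulAut.conj c).mapSubgroup H).2 hH

end PSL

variable {G : Type u} [Group G] [Finite G] [IsSimpleGroup G]

omit [Finite G] [IsSimpleGroup G] in
theorem not_centralizer_lt {F : Type v} [Field F] [Fintype F] (hodd : Odd (Fintype.card F))
    (h11 : 11 ≤ Fintype.card F) (e : G ≃* Matrix.ProjectiveSpecialLinearGroup (Fin 2) F)
    {t : G} (ht : orderOf t = 2) {K : Subgroup G} (hlt : Subgroup.centralizer ({t} : Set G) < K) :
    K = ⊤ := by
  have h := centralizer_isCoatom hodd h11 (x := e t) (by rw [MulEquiv.orderOf_eq, ht])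
  have hmap : e.mapSubgroup (Subgroup.centralizer ({t} : Set G)) =
      Subgroup.centralizer ({e t} : Set _) := by
    rw [MulEquiv.mapSubgroup_apply]
    ext k
    rw [Subgroup.mem_map, Subgroup.mem_centralizer_singleton_iff]
    constructor
    · rintro ⟨l, hl, rfl⟩
      rw [Subgroup.mem_centralizer_singleton_iff] at hl
      show e l * e t = e t * e l
      rw [← map_mul, hl, map_mul]
    · intro hk
      refine ⟨e.symm k, ?_, e.apply_symm_apply k⟩
      rw [Subgroup.mem_centralizer_singleton_iff]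
      apply e.injective
      simp [hk]
  rw [← hmap] at h
  exact ((OrderIso.isCoatom_iff e.mapSubgroup _).1 h).2 K hlt

omit [Finite G] in
/-- A subgroup without components is proper. -/
theorem ne_top_of_genFitting_eq (hna : ¬ IsMulCommutative G) {K : Subgroup G}
    (hK : Cfsg.generalizedFittingSubgroup ↥K = Cfsg.fittingSubgroup ↥K) : K ≠ ⊤ := by
  rintro rfl
  haveI : IsSimpleGroup (⊤ : Subgroup G) :=
    IsSimpleGroup.isSimpleGroup_of_surjective (Subgroup.topEquiv.symm : G ≃* (⊤ : Subgroup G)).toMonoidHom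
      (Subgroup.topEquiv.symm : G ≃* (⊤ : Subgroup G)).surjective
  have hna' : ¬ IsMulCommutative (⊤ : Subgroup G) := fun h => hna ⟨⟨fun a b =>
    congrArg Subtype.val (h.is_comm.comm ⟨a, Subgroup.mem_top a⟩ ⟨b, Subgroup.mem_top b⟩)⟩⟩
  rw [CfsgLib.Cores.generalizedFittingSubgroup_eq_top_of_isSimpleGroup hna',
    CfsgLib.Cores.fittingSubgroup_eq_bot_of_isSimpleGroup hna'] at hK
  exact top_ne_bot hK

/-- The statement S3287, given the Gorenstein-Walter theorem. -/
theorem component_of_gw (hGW : DihedralPerfect.{u}) (S : Sylow 2 G) (m : ℕ)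
    (eS : ↥(S : Subgroup G) ≃* DihedralGroup m)
    (t : G) (ht : orderOf t = 2) (K : Subgroup G) (hlt : Subgroup.centralizer ({t} : Set G) < K)
    (hK : Cfsg.generalizedFittingSubgroup ↥K = Cfsg.fittingSubgroup ↥K) :
    Nonempty (G ≃* ↥(alternatingGroup (Fin 5))) ∨ Nonempty (G ≃* ↥(alternatingGroup (Fin 7))) ∨
      (∃ (F : Type) (_ : Field F) (_ : Fintype F), Fintype.card F = 2 ∧
        Nonempty (G ≃* Matrix.ProjectiveSpecialLinearGroup (Fin 3) F)) ∨
      (∃ (F : Type) (_ : Field F) (_ : Fintype F), Fintype.card F = 9 ∧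
        Nonempty (G ≃* Matrix.ProjectiveSpecialLinearGroup (Fin 2) F)) := by
  classical
  haveI : Fact (Nat.Prime 2) := ⟨Nat.prime_two⟩
  have hna : ¬ IsMulCommutative G := fun h => by
    have htop : Subgroup.centralizer ({t} : Set G) = ⊤ := eq_top_iff.2 fun k _ =>
      Subgroup.mem_centralizer_singleton_iff.2 (h.is_comm.comm k t)
    exact not_top_lt (htop ▸ hlt)
  have hK' := ne_top_of_genFitting_eq hna hK
  have hm0 : m ≠ 0 := by
    rintro rfl
    haveI := Finite.of_equiv _ eS.toEquiv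
    exact not_finite (DihedralGroup 0)
  have hm1 : m ≠ 1 := by
    rintro rfl
    haveI : IsCyclic (S : Subgroup G) := isCyclic_of_prime_card
      ((Nat.card_congr eS.toEquiv).trans (by rw [DihedralGroup.nat_card]))
    have hfac : (Nat.card G).minFac = 2 := (Nat.minFac_eq_two_iff _).2 (RankTwoSimple.even_card hna)
    have hN := IsCyclic.normalizer_le_centralizer hfac (inferInstance : IsCyclic (S : Subgroup G))
    have hc := MonoidHom.ker_transferSylow_isComplement' S hN
    rcases (MonoidHom.normal_ker (MonoidHom.transferSylow S hN)).eq_bot_or_eq_top with h | h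
    · rw [h, Subgroup.isComplement'_bot_left] at hc
      haveI : IsCyclic (⊤ : Subgroup G) := hc ▸ (inferInstance : IsCyclic (S : Subgroup G))
      exact hna ⟨⟨fun a b => congrArg Subtype.val
        (IsCyclic.commGroup.mul_comm (⟨a, Subgroup.mem_top a⟩ : (⊤ : Subgroup G)) ⟨b, Subgroup.mem_top b⟩)⟩⟩
    · rw [h, Subgroup.isComplement'_top_left] at hc
      have := Nat.card_congr eS.toEquiv
      rw [hc, Subgroup.card_bot, DihedralGroup.nat_card] at this
      omega
  haveI : Group.IsPerfect G := ⟨(inferInstance : (commutator G).Normal).eq_bot_or_eq_top.resolve_left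
    fun h => hna ⟨⟨fun a b => commutatorElement_eq_one_iff_mul_comm.1
      (Subgroup.mem_bot.1 (h ▸ Subgroup.commutator_mem_commutator (Subgroup.mem_top a) (Subgroup.mem_top b)))⟩⟩⟩
  have h : GW.IsGWGroup G := GW.IsGWGroup.of_equiv
    ((QuotientGroup.quotientBot).symm.trans
      (QuotientGroup.quotientMulEquivOfEq (RankTwoSimple.oddCore_eq_bot hna).symm))
    (hGW G ⟨S, m, by omega, ⟨eS⟩⟩)
  rcases h with ⟨F, iF, iT, hodd, h3, ⟨e⟩⟩ | h7
  swap
  · exact Or.inr (Or.inl h7)
  by_cases h11 : 11 ≤ Fintype.card F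
  · exact absurd (not_centralizer_lt hodd h11 e ht hlt) hK'
  have h579 : Fintype.card F = 5 ∨ Fintype.card F = 7 ∨ Fintype.card F = 9 := by
    rw [Nat.odd_iff] at hodd; omega
  rcases h579 with h5 | h7 | h9
  · obtain ⟨e'⟩ := Cfsg.Agent.S0253.result h5
    exact Or.inl ⟨e.trans e'⟩
  · obtain ⟨e'⟩ := Cfsg.Agent.S0255.result (K := ZMod 2) h7 (ZMod.card 2)
    exact Or.inr (Or.inr (Or.inl ⟨ZMod 2, inferInstance, inferInstance, ZMod.card 2, ⟨e.trans e'⟩⟩))
  · exact Or.inr (Or.inr (Or.inr ⟨F, iF, iT, h9, ⟨e⟩⟩))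

end CfsgLib.GWApps.Component
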