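import Cfsg.Agent.S0205
import Cfsg.Agent.S2202
import Cfsg.Agent.Lib.TwoFusion.TransferMod
import Cfsg.Agent.Lib.TwoGroups.NormalAbelian
import Cfsg.Agent.Lib.ClassicalLinear.Simple
import Cfsg.Agent.Lib.ClassicalLinear.UnipotentTwo
import Cfsg.Agent.Lib.SL2Gen.Basic
import Cfsg.Agent.Lib.SL2.Card

/-!
Groups in which an involution has a generalized dihedral centralizer: first facts and the case of
an elementary abelian centralizer.
-/

set_option autoImplicit false

namespace CfsgLib.GWApps.GenDihedral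

open scoped MatrixGroups

universe u

variable {G : Type u} [Group G] [Finite G]

/-- The conclusion of S3322. -/
def Concl (G : Type u) [Group G] : Prop :=
  ∃ (N : Subgroup G) (_ : N.Normal), (Odd (Nat.card ↥N) ∨ ∃ m : ℕ, Odd m ∧ Nat.card ↥N = 2 * m) ∧
    ∃ (F : Type) (_ : Field F) (_ : Fintype F), 3 < Fintype.card F ∧
      (Nonempty (G ⧸ N ≃* Matrix.ProjectiveSpecialLinearGroup (Fin 2) F) ∨
        Nonempty (G ⧸ N ≃* Matrix.ProjGenLinGroup (Fin 2) F))

/-- Hypotheses of the main case: `H` is generalized dihedral over `A`, not elementary abelian. -/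
structure Hyp (H A : Subgroup G) : Prop where
  hAH : A < H
  hD : ∀ x ∈ H, x ∉ A → x * x = 1
  h4 : 4 ∣ Nat.card H
  hC : ∀ j ∈ H, orderOf j = 2 → (∀ h ∈ H, h * j = j * h) → Subgroup.centralizer ({j} : Set G) = H
  hns : ¬ Group.IsSolvable G
  hA2 : ∃ a ∈ A, a * a ≠ 1

theorem inv_eq_self_of_sq {x : G} (h : x * x = 1) : x⁻¹ = x := inv_eq_of_mul_eq_one_right h

theorem orderOf_two {x : G} (h : x * x = 1) (h1 : x ≠ 1) : orderOf x = 2 :=
  orderOf_eq_prime (by rw [pow_two, h]) h1

/-- An element centralising `x` modulo an odd normal subgroup is a centralising element times an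
element of that subgroup. -/
theorem exists_centralizing_mul {O : Subgroup G} [O.Normal] (hO : Odd (Nat.card O)) {x g : G}
    (hx : orderOf x = 2) (hg : g * x * g⁻¹ * x ∈ O) :
    ∃ r ∈ O, r⁻¹ * g ∈ Subgroup.centralizer ({x} : Set G) := by
  have hx2 : x * x = 1 := by rw [← pow_two, ← hx, pow_orderOf_eq_one]
  set o := g * x * g⁻¹ * x with ho
  have hinv : x * o * x = o⁻¹ := by
    have h1 : (o * x) * (o * x) = 1 := by
      rw [ho, mul_assoc _ x x, hx2, mul_one]
      calc g * x * g⁻¹ * (g * x * g⁻¹) = g * (x * x) * g⁻¹ := by group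
        _ = 1 := by rw [hx2]; group
    rw [eq_inv_iff_mul_eq_one]
    calc x * o * x * o = o⁻¹ * (o * x * (o * x)) * o := by group
      _ = 1 := by rw [h1]; group
  obtain ⟨k, hk⟩ : Odd (orderOf o) := by
    refine hO.of_dvd_nat ?_
    exact Subgroup.orderOf_dvd_natCard _ hg
  refine ⟨o ^ (k + 1), pow_mem hg _, ?_⟩
  rw [Subgroup.mem_centralizer_singleton_iff]
  have hxk : x * o ^ (k + 1) * x = (o ^ (k + 1))⁻¹ := by
    have : ∀ n : ℕ, x * o ^ n * x = (o ^ n)⁻¹ := by
      intro n
      induction n with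
      | zero => simpa using hx2
      | succ n ih =>
        rw [show x * o ^ (n + 1) * x = (x * o ^ n * x) * (x * o * x) from by
          rw [pow_succ]
          calc x * (o ^ n * o) * x = x * o ^ n * 1 * o * x := by group
            _ = _ := by rw [← hx2]; group, ih, hinv, ← mul_inv_rev, ← pow_succ']
    exact this _
  have hsq : o ^ (k + 1) * o ^ (k + 1) = o := by
    rw [← pow_add, show k + 1 + (k + 1) = orderOf o + 1 by omega, pow_succ, pow_orderOf_eq_one, one_mul]
  have hgx : g * x * g⁻¹ = o * x := by rw [ho, mul_assoc _ x x, hx2, mul_one]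
  set r := o ^ (k + 1)
  have hrx : x * r⁻¹ = r * x := by
    rw [← hxk, ← mul_assoc, ← mul_assoc, hx2, one_mul]
  calc (r⁻¹ * g) * x = r⁻¹ * (g * x * g⁻¹) * g := by group
    _ = r⁻¹ * ((r * r) * x) * g := by rw [hgx, hsq]
    _ = (r * x) * g := by group
    _ = x * (r⁻¹ * g) := by rw [← hrx]; group

namespace Hyp

variable {H A : Subgroup G} (h : Hyp H A)
include h

theorem ne_top_sq {w : G} (hw : w ∈ H) (hwA : w ∉ A) : orderOf w = 2 :=
  orderOf_two (h.hD w hw hwA) fun h1 => hwA (h1 ▸ one_mem A)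

theorem inverts {w a : G} (hw : w ∈ H) (hwA : w ∉ A) (ha : a ∈ A) : w * a * w = a⁻¹ := by
  have h1 := h.hD _ (mul_mem hw (h.hAH.le ha)) fun hc => hwA (by simpa using mul_mem hc (inv_mem ha))
  rw [eq_inv_iff_mul_eq_one]
  simpa [mul_assoc] using h1

theorem mul_mem_A {w w' : G} (hw : w ∈ H) (hwA : w ∉ A) (hw' : w' ∈ H) (hwA' : w' ∉ A) :
    w * w' ∈ A := by
  by_contra hc
  obtain ⟨a, ha, ha2⟩ := h.hA2
  have h1 := h.inverts (mul_mem hw hw') hc ha
  have hinv : w' * w = (w * w')⁻¹ := by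
    rw [mul_inv_rev, inv_eq_self_of_sq (h.hD w hw hwA), inv_eq_self_of_sq (h.hD w' hw' hwA')]
  have hself : w * w' = w' * w := by
    rw [hinv, inv_eq_self_of_sq (h.hD _ (mul_mem hw hw') hc)]
  have h2 : (w * w') * a * (w * w') = a := by
    conv_lhs => arg 2; rw [hself]
    calc w * w' * a * (w' * w) = w * (w' * a * w') * w := by group
      _ = w * a⁻¹ * w := by rw [h.inverts hw' hwA' ha]
      _ = a := by rw [h.inverts hw hwA (inv_mem ha), inv_inv]
  have e : a⁻¹ = a := h1.symm.trans h2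
  exact ha2 (by nth_rewrite 1 [← e]; exact inv_mul_cancel a)

theorem exists_outside : ∃ w ∈ H, w ∉ A := SetLike.exists_of_lt h.hAH

theorem comm_A {a b : G} (ha : a ∈ A) (hb : b ∈ A) : a * b = b * a := by
  obtain ⟨w, hw, hwA⟩ := h.exists_outside
  have h1 := h.inverts hw hwA (mul_mem ha hb)
  have hw2 := h.hD w hw hwA
  have h2 : w * (a * b) * w = a⁻¹ * b⁻¹ := by
    rw [← h.inverts hw hwA ha, ← h.inverts hw hwA hb]
    calc w * (a * b) * w = w * a * 1 * b * w := by group
      _ = _ := by rw [← hw2]; group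
  rw [h1, ← mul_inv_rev] at h2
  exact inv_injective h2

theorem central {e : G} (he : e ∈ A) (he2 : e * e = 1) : ∀ x ∈ H, x * e = e * x := by
  intro x hx
  by_cases hxA : x ∈ A
  · exact h.comm_A hxA he
  · have := h.inverts hx hxA he
    rw [inv_eq_self_of_sq he2] at this
    calc x * e = (x * e * x) * x⁻¹ := by group
      _ = e * x := by rw [this, inv_eq_self_of_sq (h.hD x hx hxA)]

theorem cent {e : G} (he : e ∈ A) (he2 : e * e = 1) (he1 : e ≠ 1) :
    Subgroup.centralizer ({e} : Set G) = H :=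
  h.hC e (h.hAH.le he) (orderOf_two he2 he1) (h.central he he2)

theorem not_central_outside {w : G} (hw : w ∈ H) (hwA : w ∉ A) : ∃ x ∈ H, x * w ≠ w * x := by
  obtain ⟨a, ha, ha2⟩ := h.hA2
  refine ⟨a, h.hAH.le ha, fun hc => ha2 ?_⟩
  have := h.inverts hw hwA ha
  rw [mul_assoc, hc, ← mul_assoc, h.hD w hw hwA, one_mul] at this
  exact eq_inv_iff_mul_eq_one.1 this

theorem conj_mem_A {x a : G} (hx : x ∈ H) (ha : a ∈ A) : x * a * x⁻¹ ∈ A := by
  by_cases hxA : x ∈ A
  · exact mul_mem (mul_mem hxA ha) (inv_mem hxA)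
  · rw [inv_eq_self_of_sq (h.hD x hx hxA), h.inverts hx hxA ha]
    exact inv_mem ha

theorem card_H : Nat.card H = 2 * Nat.card A := by
  obtain ⟨w, hw, hwA⟩ := h.exists_outside
  have h1 : (A.subgroupOf H).index = 2 := Subgroup.index_eq_two_iff.2 ⟨⟨w, hw⟩, fun b => by
    rw [Subgroup.mem_subgroupOf, Subgroup.mem_subgroupOf]
    by_cases hb : (b : G) ∈ A
    · exact Or.inr ⟨hb, fun hc => hwA (by simpa using mul_mem (inv_mem hb) hc)⟩
    · exact Or.inl ⟨h.mul_mem_A b.2 hb hw hwA, hb⟩⟩
  rw [← (A.subgroupOf H).card_mul_index, h1, Nat.card_congr (Subgroup.subgroupOfEquivOfLe h.hAH.le).toEquiv,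
    mul_comm]

theorem exists_involution_A : ∃ j ∈ A, orderOf j = 2 := by
  haveI : Fact (Nat.Prime 2) := ⟨Nat.prime_two⟩
  have h2 : 2 ∣ Nat.card A := by have := h.h4; rw [h.card_H] at this; omega
  obtain ⟨j, hj⟩ := exists_prime_orderOf_dvd_card' 2 h2
  exact ⟨j, j.2, by rw [Subgroup.orderOf_coe, hj]⟩

/-- An element conjugating a central involution to a central involution normalises `H` and `A`. -/
theorem normalizes {n e : G} (he : e ∈ A) (he2 : e * e = 1) (he1 : e ≠ 1) (hn : n * e * n⁻¹ ∈ A) :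
    n ∈ Subgroup.normalizer (H : Set G) ∧ ∀ a ∈ A, n * a * n⁻¹ ∈ A := by
  have h1 := h.cent he he2 he1
  have h2 : Subgroup.centralizer ({n * e * n⁻¹} : Set G) = H := by
    refine h.cent hn ?_ fun hc => he1 (conj_eq_one_iff.1 hc)
    rw [show n * e * n⁻¹ * (n * e * n⁻¹) = n * (e * e) * n⁻¹ by group, he2]; group
  have hN : n ∈ Subgroup.normalizer (H : Set G) := by
    rw [Subgroup.mem_normalizer_iff]
    intro x
    conv_lhs => rw [← h1]
    conv_rhs => rw [← h2]
    rw [Subgroup.mem_centralizer_singleton_iff, Subgroup.mem_centralizer_singleton_iff]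
    constructor
    · intro hx
      calc n * x * n⁻¹ * (n * e * n⁻¹) = n * (x * e) * n⁻¹ := by group
        _ = n * e * n⁻¹ * (n * x * n⁻¹) := by rw [hx]; group
    · intro hx
      calc x * e = n⁻¹ * (n * x * n⁻¹ * (n * e * n⁻¹)) * n := by group
        _ = e * x := by rw [hx]; group
  refine ⟨hN, ?_⟩
  have key : ∀ a ∈ A, a * a ≠ 1 → n * a * n⁻¹ ∈ A := by
    intro a ha ha2
    by_contra hc
    have hH := (Subgroup.mem_normalizer_iff.1 hN a).1 (h.hAH.le ha)
    have := h.hD _ hH hc
    refine ha2 ?_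
    calc a * a = n⁻¹ * (n * a * n⁻¹ * (n * a * n⁻¹)) * n := by group
      _ = 1 := by rw [this]; group
  intro a ha
  by_cases ha2 : a * a = 1
  · obtain ⟨b, hb, hb2⟩ := h.hA2
    have hab : (a * b) * (a * b) ≠ 1 := by
      rw [show a * b * (a * b) = a * (b * a) * b by group, h.comm_A hb ha,
        show a * (a * b) * b = a * a * (b * b) by group, ha2, one_mul]
      exact hb2
    have := mul_mem (key _ (mul_mem ha hb) hab) (inv_mem (key b hb hb2))
    rwa [show n * (a * b) * n⁻¹ * (n * b * n⁻¹)⁻¹ = n * a * n⁻¹ by group] at this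
  · exact key a ha ha2

end Hyp

/-- In characteristic two `SL₂` is `PSL₂`. -/
noncomputable def slEquivPSL {F : Type} [Field F] [CharP F 2] :
    SL(2, F) ≃* Matrix.ProjectiveSpecialLinearGroup (Fin 2) F :=
  (QuotientGroup.quotientBot (G := SL(2, F))).symm.trans
    (QuotientGroup.quotientMulEquivOfEq
      (CfsgLib.SL2.center_eq_bot_of_two (CharTwo.two_eq_zero (R := F))).symm)

theorem three_lt_card_field {F : Type} [Field F] [Fintype F] [CharP F 2]
    (h : 4 ∣ Nat.card SL(2, F)) : 3 < Fintype.card F := by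
  haveI : Fact (Nat.Prime 2) := ⟨Nat.prime_two⟩
  obtain ⟨⟨n, hn⟩, -, hc⟩ := FiniteField.card F 2
  rcases n with - | - | n
  · omega
  · exfalso
    rw [CfsgLib.SL2.card_SL, Nat.card_eq_fintype_card, hc] at h
    norm_num at h
  · rw [hc]
    calc 3 < 2 ^ 2 := by norm_num
      _ ≤ 2 ^ (n + 1 + 1) := Nat.pow_le_pow_right two_pos (by omega)

/-- The elementary abelian case. -/
theorem elementary_case {H : Subgroup G} (hE : ∀ x ∈ H, x * x = 1) (h4 : 4 ∣ Nat.card H)
    (hC : ∀ j ∈ H, orderOf j = 2 → (∀ h ∈ H, h * j = j * h) → Subgroup.centralizer ({j} : Set G) = H)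
    (hns : ¬ Group.IsSolvable G) : Concl G := by
  haveI : Fact (Nat.Prime 2) := ⟨Nat.prime_two⟩
  have hcomm : ∀ x ∈ H, ∀ y ∈ H, x * y = y * x := fun x hx y hy => by
    have := hE _ (mul_mem hx hy)
    calc x * y = (y * x) * ((x * y) * (x * y)) := by
          rw [show (y * x) * (x * y * (x * y)) = y * (x * x) * y * (x * y) by group, hE x hx, mul_one,
            hE y hy, one_mul]
      _ = y * x := by rw [this, mul_one]
  have hcent : ∀ x ∈ H, orderOf x = 2 → Subgroup.centralizer ({x} : Set G) = H := fun x hx hx2 =>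
    hC x hx hx2 fun y hy => hcomm y hy x hx
  have hHp : IsPGroup 2 H := fun x => ⟨1, Subtype.ext (by
    rw [pow_one, pow_two]; exact hE x x.2)⟩
  obtain ⟨T, hT⟩ := hHp.exists_le_sylow
  obtain ⟨⟨j, hj⟩, hjo⟩ := exists_prime_orderOf_dvd_card' (G := H) 2 ((show 2 ∣ 4 by norm_num).trans h4)
  rw [Subgroup.orderOf_mk] at hjo
  haveI : Nontrivial (T : Subgroup G) :=
    ⟨⟨j, hT hj⟩, 1, fun hc => by simp only [Subtype.ext_iff, Subgroup.coe_one] at hc; rw [hc, orderOf_one] at hjo; omega⟩
  have hTH : (T : Subgroup G) = H := by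
    haveI := T.isPGroup'.center_nontrivial
    obtain ⟨z, hz⟩ : ∃ z : Subgroup.center (T : Subgroup G), orderOf z = 2 := by
      refine exists_prime_orderOf_dvd_card' 2 ?_
      obtain ⟨k, hk⟩ := IsPGroup.iff_card.1 (T.isPGroup'.to_subgroup (Subgroup.center (T : Subgroup G)))
      rw [hk]
      refine dvd_pow_self 2 fun hk0 => ?_
      rw [hk0, pow_zero] at hk
      exact absurd hk (Finite.one_lt_card).ne'
    have hzo : orderOf ((z : (T : Subgroup G)) : G) = 2 := by
      rw [Subgroup.orderOf_coe, Subgroup.orderOf_coe, hz]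
    have hzH : ((z : (T : Subgroup G)) : G) ∈ H := by
      rw [← hcent j hj hjo, Subgroup.mem_centralizer_singleton_iff]
      exact (congrArg Subtype.val (Subgroup.mem_center_iff.1 z.2 ⟨j, hT hj⟩)).symm
    refine le_antisymm (fun t ht => ?_) hT
    rw [← hcent _ hzH hzo, Subgroup.mem_centralizer_singleton_iff]
    exact congrArg Subtype.val (Subgroup.mem_center_iff.1 z.2 ⟨t, ht⟩)
  have heven : Even (Nat.card G) := even_iff_two_dvd.2 (hjo ▸ orderOf_dvd_natCard j)
  have habel : ∀ x : G, orderOf x = 2 → IsMulCommutative ↥(Subgroup.centralizer ({x} : Set G)) := by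
    intro x hx
    obtain ⟨P, hP⟩ := (IsPGroup.of_card (n := 1) (by rw [Nat.card_zpowers, hx, pow_one]) :
      IsPGroup 2 (Subgroup.zpowers x)).exists_le_sylow
    obtain ⟨g, hg⟩ := MulAction.exists_smul_eq G P T
    have hgx : g * x * g⁻¹ ∈ H := by
      rw [← hTH, ← hg, Sylow.coe_subgroup_smul, Subgroup.mem_pointwise_smul_iff_inv_smul_mem,
        ← map_inv, MulAut.smul_def, MulAut.conj_apply]
      simpa [mul_assoc] using hP (Subgroup.mem_zpowers x)
    have hc := hcent _ hgx (by rw [← hx]; exact (MulEquiv.orderOf_eq (MulAut.conj g) x))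
    refine ⟨⟨fun a b => ?_⟩⟩
    have hm : ∀ c : Subgroup.centralizer ({x} : Set G), g * (c : G) * g⁻¹ ∈ H := fun c => by
      rw [← hc, Subgroup.mem_centralizer_singleton_iff]
      calc g * (c : G) * g⁻¹ * (g * x * g⁻¹) = g * ((c : G) * x) * g⁻¹ := by group
        _ = g * x * g⁻¹ * (g * (c : G) * g⁻¹) := by
          rw [Subgroup.mem_centralizer_singleton_iff.1 c.2]; group
    have := hcomm _ (hm a) _ (hm b)
    refine Subtype.ext ((MulAut.conj g).injective ?_)
    simp only [Subgroup.coe_mul, map_mul, MulAut.conj_apply]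
    exact this
  rcases Cfsg.Agent.S2202.result heven habel with hcy | hn | ⟨F, iF, iT, B, iB, iBf, hch, hBodd, ⟨e⟩⟩
  · exfalso
    classical
    haveI := hcy T
    haveI := Fintype.ofFinite (T : Subgroup G)
    have hle := IsCyclic.card_pow_eq_one_le (α := (T : Subgroup G)) (n := 2) two_pos
    have hall : (Finset.univ.filter fun a : (T : Subgroup G) => a ^ 2 = 1) = Finset.univ :=
      Finset.filter_true_of_mem fun a _ => Subtype.ext (by
        rw [Subgroup.coe_pow, pow_two]; exact hE a (hTH ▸ a.2))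
    rw [hall, Finset.card_univ, ← Nat.card_eq_fintype_card, hTH] at hle
    have := Nat.le_of_dvd Nat.card_pos h4
    omega
  · exfalso
    haveI := hn T
    haveI := T.isPGroup'.isNilpotent
    have hodd : Odd (Nat.card (G ⧸ (T : Subgroup G))) := by
      rw [← Subgroup.index_eq_card]
      exact Nat.not_even_iff_odd.1 fun he => T.not_dvd_index (even_iff_two_dvd.1 he)
    haveI := Cfsg.Agent.S0205.result hodd
    exact hns (solvable_of_ker_le_range (T : Subgroup G).subtype
      (QuotientGroup.mk' (T : Subgroup G)) (by rw [QuotientGroup.ker_mk', Subgroup.range_subtype]))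
  · haveI := iBf
    haveI := hch
    set π := (MonoidHom.fst (SL(2, F)) B).comp e.toMonoidHom with hπ
    have hsurj : Function.Surjective π := fun s => ⟨e.symm (s, 1), by simp [π]⟩
    have hker : Odd (Nat.card π.ker) := by
      refine hBodd.of_dvd_nat (Subgroup.card_dvd_of_injective
        (((MonoidHom.snd (SL(2, F)) B).comp e.toMonoidHom).domRestrict π.ker) ?_)
      rintro ⟨a, ha⟩ ⟨b, hb⟩ hab
      exact Subtype.ext (e.injective (Prod.ext ((MonoidHom.mem_ker.1 ha).trans (MonoidHom.mem_ker.1 hb).symm) hab))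
    refine ⟨π.ker, inferInstance, Or.inl hker, F, iF, iT, ?_, Or.inl
      ⟨(QuotientGroup.quotientKerEquivOfSurjective π hsurj).trans slEquivPSL⟩⟩
    refine three_lt_card_field ?_
    -- a group of order four embeds
    have hinj : Function.Injective (π.comp H.subtype) := by
      rw [injective_iff_map_eq_one]
      intro x hx
      have h1 : orderOf (x : G) ∣ Nat.card π.ker := Subgroup.orderOf_dvd_natCard _ hx
      have h2 : orderOf (x : G) ∣ 2 := orderOf_dvd_of_pow_eq_one (by rw [pow_two]; exact hE x x.2)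
      exact Subtype.ext (orderOf_eq_one_iff.1
        (Nat.eq_one_of_dvd_coprimes (Nat.coprime_two_left.2 hker) h2 h1))
    exact h4.trans (Subgroup.card_dvd_of_injective _ hinj)
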