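import Cfsg.Agent.Lib.GWApps.GenDihedralBasic
import Mathlib.GroupTheory.Nilpotent

/-!
A generalized dihedral centralizer with at least two involutions in its abelian half: the group is
`SL₂` of characteristic two over a normal subgroup of order twice an odd number.
-/

set_option autoImplicit false

namespace CfsgLib.GWApps.GenDihedral

open scoped MatrixGroups
open CfsgLib.ClassicalLinear (upS upperSL upS_coe upS_add upS_injective mem_upperSL)
open CfsgLib.SL2Gen (lowS lowS_coe upperSL_le_eq_top borel_ne_top)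

universe u

section SL

variable {F : Type} [Field F] [CharP F 2]

theorem upS_mul_self (t : F) : upS t * upS t = 1 := by
  rw [← upS_add, CharTwo.add_self_eq_zero, CfsgLib.SL2.upS_zero]

theorem lowS_mul_self (t : F) : lowS t * lowS t = 1 := by
  apply Subtype.ext
  rw [Matrix.SpecialLinearGroup.coe_mul, lowS_coe]
  ext i j
  fin_cases i <;> fin_cases j <;> simp [Matrix.mul_apply, CharTwo.add_self_eq_zero]

theorem lowS_one_notMem_borel : lowS (1 : F) ∉ CfsgLib.SL2.borel F := by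
  rw [CfsgLib.SL2.mem_borel, lowS_coe]; simp

theorem eq_top_of_gens [Finite F] {H : Subgroup SL(2, F)} (hU : ∀ t, upS t ∈ H)
    (hl : lowS (1 : F) ∈ H) : H = ⊤ :=
  upperSL_le_eq_top (by rintro _ ⟨t, rfl⟩; exact hU t) fun hle => lowS_one_notMem_borel (hle hl)

theorem center_eq_bot : Subgroup.center SL(2, F) = ⊥ :=
  CfsgLib.SL2.center_eq_bot_of_two (CharTwo.two_eq_zero (R := F))

theorem eq_one_of_center {x : SL(2, F)} (hx : x ∈ Subgroup.center SL(2, F)) : x = 1 := by
  rw [center_eq_bot] at hx; exact Subgroup.mem_bot.1 hx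

/-- An involution is conjugate to a unitriangular element. -/
theorem exists_conj_upS [Finite F] {u : SL(2, F)} (hu : u * u = 1) (hu1 : u ≠ 1) :
    ∃ (k : SL(2, F)) (x : F), x ≠ 0 ∧ k * u * k⁻¹ = upS x := by
  have ht : CfsgLib.SL2.tr u = 0 := by
    by_contra ht
    have h1 := CfsgLib.SL2.mul_self_eq u
    rw [← Matrix.SpecialLinearGroup.coe_mul, hu, Matrix.SpecialLinearGroup.coe_one,
      eq_sub_iff_add_eq] at h1
    have h10 := congrFun (congrFun h1 1) 0
    have h01 := congrFun (congrFun h1 0) 1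
    have h00 := congrFun (congrFun h1 0) 0
    have h11 := congrFun (congrFun h1 1) 1
    simp [CharTwo.add_self_eq_zero, ht] at h10 h01 h00 h11
    have := CfsgLib.SL2.det_eq u
    rw [h10, h01, h00] at this
    simp at this
  obtain ⟨k, ε, x, hε, hk⟩ := CfsgLib.SL2.trichotomy (g := u) (by
    rw [ht, show (4 : F) = 2 * 2 by norm_num, CharTwo.two_eq_zero (R := F)]; ring)
  rw [eq_one_of_center hε, one_mul] at hk
  refine ⟨k, x, fun hx => hu1 ?_, hk⟩
  rwa [hx, CfsgLib.SL2.upS_zero, conj_eq_one_iff] at hk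

theorem exists_upS_of_commute [Finite F] {h : SL(2, F)} {x : F} (hx : x ≠ 0)
    (hc : h * upS x = upS x * h) : ∃ y, h = upS y := by
  obtain ⟨η, hη, y, hy⟩ := (CfsgLib.SL2.mem_centralizer_upS (one_mem _) hx h).1 (by
    rw [Subgroup.mem_centralizer_singleton_iff, one_mul]; exact hc)
  exact ⟨y, by rw [hy, eq_one_of_center hη, one_mul]⟩

/-- An automorphism fixing the unitriangular group pointwise is conjugation by one of its
elements. -/
theorem aut_eq_conj_upS [Finite F] (α : SL(2, F) ≃* SL(2, F)) (hα : ∀ t, α (upS t) = upS t) :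
    ∃ s : F, ∀ x, α x = upS s * x * (upS s)⁻¹ := by
  set w := α (lowS 1) with hw
  have hwB : w ∉ CfsgLib.SL2.borel F := by
    intro hc
    have htop : (CfsgLib.SL2.borel F).comap α.toMonoidHom = ⊤ :=
      eq_top_of_gens (fun t => by
        rw [Subgroup.mem_comap, MulEquiv.toMonoidHom_eq_coe, MonoidHom.coe_coe, hα]
        exact CfsgLib.SL2.upS_mem_borel t) hc
    refine borel_ne_top (F := F) (eq_top_iff.2 fun g _ => ?_)
    have : α.symm g ∈ (CfsgLib.SL2.borel F).comap α.toMonoidHom := htop ▸ Subgroup.mem_top _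
    simpa using this
  set c := (w : Matrix (Fin 2) (Fin 2) F) 1 0 with hc
  have hc0 : c ≠ 0 := hwB
  have hdiag : (w : Matrix (Fin 2) (Fin 2) F) 0 0 = (w : Matrix (Fin 2) (Fin 2) F) 1 1 := by
    have h1 : w * w = 1 := by rw [hw, ← map_mul, lowS_mul_self, map_one]
    have h2 := congrArg (fun g : SL(2, F) => (g : Matrix (Fin 2) (Fin 2) F) 1 0) h1
    simp [Matrix.mul_apply] at h2
    have h3 : c * ((w : Matrix (Fin 2) (Fin 2) F) 0 0 + (w : Matrix (Fin 2) (Fin 2) F) 1 1) = 0 := by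
      linear_combination h2
    rcases mul_eq_zero.1 h3 with h4 | h4
    · exact absurd h4 hc0
    · exact CharTwo.add_eq_zero.1 h4
  set t := (1 + (w : Matrix (Fin 2) (Fin 2) F) 0 0) / c with ht
  set v := upS t * w * upS t with hv
  have hv00 : (v : Matrix (Fin 2) (Fin 2) F) 0 0 = 1 := by
    rw [hv, Matrix.SpecialLinearGroup.coe_mul, Matrix.SpecialLinearGroup.coe_mul, upS_coe,
      Matrix.eta_fin_two (w : Matrix (Fin 2) (Fin 2) F), Matrix.mul_fin_two, Matrix.mul_fin_two]
    simp [← hc, ht, div_mul_cancel₀ _ hc0]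
    linear_combination CharTwo.add_self_eq_zero ((w : Matrix (Fin 2) (Fin 2) F) 0 0)
  have hv11 : (v : Matrix (Fin 2) (Fin 2) F) 1 1 = 1 := by
    rw [hv, Matrix.SpecialLinearGroup.coe_mul, Matrix.SpecialLinearGroup.coe_mul, upS_coe,
      Matrix.eta_fin_two (w : Matrix (Fin 2) (Fin 2) F), Matrix.mul_fin_two, Matrix.mul_fin_two]
    simp [← hc, ht, mul_div_cancel₀ _ hc0, ← hdiag]
    linear_combination CharTwo.add_self_eq_zero ((w : Matrix (Fin 2) (Fin 2) F) 0 0)
  have hv10 : (v : Matrix (Fin 2) (Fin 2) F) 1 0 = c := by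
    rw [hv, Matrix.SpecialLinearGroup.coe_mul, Matrix.SpecialLinearGroup.coe_mul, upS_coe,
      Matrix.eta_fin_two (w : Matrix (Fin 2) (Fin 2) F), Matrix.mul_fin_two, Matrix.mul_fin_two]
    simp [hc]
  have hvl : v = lowS c := by
    have hdet := CfsgLib.SL2.det_eq v
    rw [hv00, hv11, hv10] at hdet
    have h01 : (v : Matrix (Fin 2) (Fin 2) F) 0 1 = 0 := by
      have h0 : (v : Matrix (Fin 2) (Fin 2) F) 0 1 * c = 0 := by linear_combination -hdet
      exact (mul_eq_zero.1 h0).resolve_right hc0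
    apply Subtype.ext
    rw [lowS_coe]
    ext i j
    fin_cases i <;> fin_cases j <;> simp [hv00, hv11, hv10, h01]
  set β := α.trans (MulAut.conj (upS t)) with hβ
  have hβu : ∀ r, β (upS r) = upS r := fun r => by
    rw [hβ, MulEquiv.trans_apply, hα, MulAut.conj_apply, ← upS_add, add_comm, upS_add,
      mul_inv_cancel_right]
  have hinv : (upS t)⁻¹ = upS t := inv_eq_of_mul_eq_one_right (upS_mul_self t)
  have hβl : β (lowS 1) = lowS c := by
    rw [hβ, MulEquiv.trans_apply, MulAut.conj_apply, hinv, ← hw, ← hvl]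
  have h3 : lowS (1 : F) * upS 1 * (lowS 1 * upS 1) * (lowS 1 * upS 1) = 1 := by
    apply Subtype.ext
    simp only [Matrix.SpecialLinearGroup.coe_mul, lowS_coe, upS_coe]
    ext i j
    fin_cases i <;> fin_cases j <;> simp [Matrix.mul_apply, CharTwo.add_self_eq_zero]
  have hc1 : c = 1 := by
    have h4 := congrArg β h3
    simp only [map_mul, map_one, hβu, hβl] at h4
    have h5 := congrArg (fun g : SL(2, F) => (g : Matrix (Fin 2) (Fin 2) F) 0 1) h4
    simp [Matrix.mul_apply, lowS_coe, upS_coe] at h5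
    have hsq : (c - 1) * (c - 1) = 0 := by
      linear_combination h5 + (-(3 : F) * c - 1) * (CharTwo.two_eq_zero (R := F))
    exact sub_eq_zero.1 (mul_self_eq_zero.1 hsq)
  have htop : β.toMonoidHom.eqLocus (MonoidHom.id SL(2, F)) = ⊤ :=
    eq_top_of_gens hβu (hc1 ▸ hβl)
  refine ⟨t, fun x => ?_⟩
  have hx : β x = x := (htop ▸ Subgroup.mem_top x :
    x ∈ β.toMonoidHom.eqLocus (MonoidHom.id SL(2, F)))
  rw [hβ, MulEquiv.trans_apply, MulAut.conj_apply, hinv] at hx
  conv_rhs => rw [← hx]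
  rw [hinv]
  calc α x = upS t * upS t * α x * (upS t * upS t) := by rw [upS_mul_self, one_mul, mul_one]
    _ = _ := by group

theorem eq_one_of_sq_of_odd {B : Type*} [Group B] [Finite B] (hB : Odd (Nat.card B)) {b : B}
    (hb : b * b = 1) : b = 1 :=
  orderOf_eq_one_iff.1 (Nat.eq_one_of_dvd_coprimes (Nat.coprime_two_left.2 hB)
    (orderOf_dvd_of_pow_eq_one (by rw [pow_two, hb])) (orderOf_dvd_natCard b))

theorem hom_odd_trivial [Finite F] {B : Type*} [Group B] [Finite B] (hB : Odd (Nat.card B))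
    (θ : SL(2, F) →* B) (x : SL(2, F)) : θ x = 1 := by
  have htop : θ.ker = ⊤ := eq_top_of_gens
    (fun t => MonoidHom.mem_ker.2 (eq_one_of_sq_of_odd hB (by rw [← map_mul, upS_mul_self, map_one])))
    (MonoidHom.mem_ker.2 (eq_one_of_sq_of_odd hB (by rw [← map_mul, lowS_mul_self, map_one])))
  exact MonoidHom.mem_ker.1 (htop ▸ Subgroup.mem_top x)

end SL

theorem ofAdd_one_ne_one : Multiplicative.ofAdd (1 : ZMod 2) ≠ 1 := by decide

theorem ofAdd_one_mul_self :
    Multiplicative.ofAdd (1 : ZMod 2) * Multiplicative.ofAdd (1 : ZMod 2) = 1 := by decide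

theorem zmod_two_mul_eq_one :
    ∀ p q : Multiplicative (ZMod 2), p ≠ 1 → q ≠ 1 → p * q = 1 := by decide

theorem zmod_two_xor :
    ∀ p q : Multiplicative (ZMod 2), q ≠ 1 → Xor' (p * q = 1) (p = 1) := by
  unfold Xor'; decide

variable {G : Type u} [Group G] [Finite G]

/-- A `2`-element normalizing an elementary abelian `2`-group fixes a nontrivial element. -/
theorem exists_fixed {E : Subgroup G} (hE : ∀ x ∈ E, x * x = 1) {n : G}
    (hn : ∀ x ∈ E, n * x * n⁻¹ ∈ E) :
    ∀ k : ℕ, ∀ x ∈ E, x ≠ 1 → n ^ (2 ^ k) * x = x * n ^ (2 ^ k) →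
      ∃ y ∈ E, y ≠ 1 ∧ n * y = y * n := by
  have hni : ∀ i : ℕ, ∀ x ∈ E, n ^ i * x * (n ^ i)⁻¹ ∈ E := by
    intro i
    induction i with
    | zero => intro x hx; simpa using hx
    | succ i ih =>
      intro x hx
      have := ih _ (hn x hx)
      rwa [show n ^ (i + 1) * x * (n ^ (i + 1))⁻¹ = n ^ i * (n * x * n⁻¹) * (n ^ i)⁻¹ by
        rw [pow_succ]; group]
  intro k
  induction k with
  | zero => intro x hx hx1 hc; exact ⟨x, hx, hx1, by simpa using hc⟩
  | succ k ih =>
    intro x hx hx1 hc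
    set m := n ^ (2 ^ k) with hm
    have hc' : m * m * x = x * (m * m) := by
      rw [hm, ← pow_add, ← two_mul, ← pow_succ']
      exact hc
    set x' := m * x * m⁻¹ with hx'
    have hx'E : x' ∈ E := hni _ x hx
    by_cases hfix : x' = x
    · exact ih x hx hx1 (mul_inv_eq_iff_eq_mul.1 hfix)
    · refine ih (x * x') (mul_mem hx hx'E) (fun h1 => hfix ?_) ?_
      · calc x' = x * x * x' := by rw [hE x hx, one_mul]
          _ = x := by rw [mul_assoc, h1, mul_one]
      · have hx'' : m * x' * m⁻¹ = x := by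
          rw [hx', show m * (m * x * m⁻¹) * m⁻¹ = (m * m * x) * (m * m)⁻¹ by group, hc',
            mul_inv_cancel_right]
        have hcm : x * x' = x' * x := by
          rw [← inv_eq_self_of_sq (hE _ (mul_mem hx hx'E)), mul_inv_rev,
            inv_eq_self_of_sq (hE x hx), inv_eq_self_of_sq (hE x' hx'E)]
        calc m * (x * x') = (m * x * m⁻¹) * (m * x' * m⁻¹) * m := by group
          _ = x * x' * m := by rw [← hx', hx'', ← hcm]

namespace Hyp

variable {H A : Subgroup G} (h : Hyp H A)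
include h

/-- The elements of `A` of order at most two. -/
def omega : Subgroup G where
  carrier := {a | a ∈ A ∧ a * a = 1}
  one_mem' := ⟨one_mem A, mul_one 1⟩
  mul_mem' := by
    rintro a b ⟨ha, ha2⟩ ⟨hb, hb2⟩
    refine ⟨mul_mem ha hb, ?_⟩
    rw [show a * b * (a * b) = a * (b * a) * b by group, h.comm_A hb ha,
      show a * (a * b) * b = a * a * (b * b) by group, ha2, one_mul, hb2]
  inv_mem' := by
    rintro a ⟨ha, ha2⟩
    exact ⟨inv_mem ha, by rw [inv_eq_self_of_sq ha2, ha2]⟩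

variable {e₁ e₂ : G} (h1 : e₁ ∈ A) (h2 : e₂ ∈ A) (o1 : orderOf e₁ = 2) (o2 : orderOf e₂ = 2)
  (hne : e₁ ≠ e₂)
include h1 h2 o1 o2 hne

/-- An element conjugating all central involutions into `H` conjugates one of them into `A`. -/
theorem exists_into_A {g : G} (hg : ∀ e ∈ A, e * e = 1 → g * e * g⁻¹ ∈ H) :
    ∃ e ∈ A, e * e = 1 ∧ e ≠ 1 ∧ g * e * g⁻¹ ∈ A := by
  have s1 : e₁ * e₁ = 1 := by rw [← pow_two, ← o1, pow_orderOf_eq_one]
  have s2 : e₂ * e₂ = 1 := by rw [← pow_two, ← o2, pow_orderOf_eq_one]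
  by_cases c1 : g * e₁ * g⁻¹ ∈ A
  · exact ⟨e₁, h1, s1, fun hc => by rw [hc, orderOf_one] at o1; omega, c1⟩
  by_cases c2 : g * e₂ * g⁻¹ ∈ A
  · exact ⟨e₂, h2, s2, fun hc => by rw [hc, orderOf_one] at o2; omega, c2⟩
  refine ⟨e₁ * e₂, mul_mem h1 h2, ((omega h).mul_mem ⟨h1, s1⟩ ⟨h2, s2⟩).2, fun hc => hne ?_, ?_⟩
  · calc e₁ = e₁ * (e₂ * e₂) := by rw [s2, mul_one]
      _ = e₂ := by rw [← mul_assoc, hc, one_mul]
  · rw [show g * (e₁ * e₂) * g⁻¹ = (g * e₁ * g⁻¹) * (g * e₂ * g⁻¹) by group]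
    exact h.mul_mem_A (hg _ h1 s1) c1 (hg _ h2 s2) c2

/-- A Sylow `2`-subgroup of `G` inside `H`, with an element outside `A`. -/
theorem exists_sylow :
    ∃ T : Sylow 2 G, (T : Subgroup G) ≤ H ∧ ∃ w ∈ (T : Subgroup G), w ∉ A := by
  haveI : Fact (Nat.Prime 2) := ⟨Nat.prime_two⟩
  obtain ⟨S⟩ : Nonempty (Sylow 2 H) := inferInstance
  obtain ⟨T, hT⟩ := (S.isPGroup'.map H.subtype).exists_le_sylow
  have hST : ∀ x : H, x ∈ (S : Subgroup H) → (x : G) ∈ (T : Subgroup G) :=
    fun x hx => hT ⟨x, hx, rfl⟩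
  have hΩ : ∀ e ∈ A, e * e = 1 → e ∈ (T : Subgroup G) := by
    intro e he he2
    haveI : (Subgroup.zpowers (⟨e, h.hAH.le he⟩ : H)).Normal := by
      refine Subgroup.Normal.mk fun x hx g => ?_
      have hcen : (⟨e, h.hAH.le he⟩ : H) ∈ Subgroup.center H :=
        Subgroup.mem_center_iff.2 fun y => Subtype.ext (h.central he he2 y y.2)
      rw [Subgroup.mem_center_iff.1 (Subgroup.zpowers_le.2 hcen hx) g, mul_inv_cancel_right]
      exact hx
    have hp : IsPGroup 2 (Subgroup.zpowers (⟨e, h.hAH.le he⟩ : H)) := fun x => ⟨1, by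
      obtain ⟨z, hz⟩ := Subgroup.mem_zpowers_iff.1 x.2
      apply Subtype.ext
      rw [Subgroup.coe_pow, Subgroup.coe_one, ← hz, pow_one, pow_two, ← zpow_add, ← two_mul, zpow_mul,
        zpow_two, show (⟨e, h.hAH.le he⟩ : H) * ⟨e, h.hAH.le he⟩ = 1 from Subtype.ext he2, one_zpow]⟩
    exact hST _ (hp.le_sylow_of_normal S (Subgroup.mem_zpowers _))
  refine ⟨T, ?_, ?_⟩
  · by_contra hTH
    set W := (T : Subgroup G) ⊓ H with hW
    have hlt : W.subgroupOf (T : Subgroup G) < ⊤ := lt_top_iff_ne_top.2 fun hc => hTH fun t ht => by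
      have h' : (⟨t, ht⟩ : (T : Subgroup G)) ∈ W.subgroupOf (T : Subgroup G) :=
        hc ▸ Subgroup.mem_top _
      exact (Subgroup.mem_subgroupOf.1 h').2
    haveI := T.isPGroup'.isNilpotent
    obtain ⟨⟨n, hnT⟩, hnN, hnW⟩ :=
      SetLike.exists_of_lt (Group.normalizerCondition_of_isNilpotent _ hlt)
    have hnH : n ∉ H := fun hc => hnW (Subgroup.mem_subgroupOf.2 ⟨hnT, hc⟩)
    have hnWc : ∀ x ∈ W, n * x * n⁻¹ ∈ W := fun x hx => by
      have := (Subgroup.mem_normalizer_iff.1 hnN ⟨x, hx.1⟩).1 (Subgroup.mem_subgroupOf.2 hx)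
      exact Subgroup.mem_subgroupOf.1 this
    obtain ⟨e, he, he2, he1, heA⟩ := h.exists_into_A h1 h2 o1 o2 hne
      (g := n) fun e he he2 => (hnWc e ⟨hΩ e he he2, h.hAH.le he⟩).2
    obtain ⟨-, hnA⟩ := h.normalizes he he2 he1 heA
    obtain ⟨k, hk⟩ := T.isPGroup' ⟨n, hnT⟩
    have hk' : n ^ 2 ^ k = 1 := by simpa using congrArg Subtype.val hk
    obtain ⟨y, hy, hy1, hny⟩ := exists_fixed (E := omega h) (fun x hx => hx.2) (n := n)
      (fun x hx => ⟨hnA x hx.1, by
        rw [show n * x * n⁻¹ * (n * x * n⁻¹) = n * (x * x) * n⁻¹ by group, hx.2]; group⟩)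
      k e ⟨he, he2⟩ he1 (by rw [hk', one_mul, mul_one])
    apply hnH
    rw [← h.cent hy.1 hy.2 hy1, Subgroup.mem_centralizer_singleton_iff]
    exact hny
  · by_contra hall
    push Not at hall
    have hle : (S : Subgroup H) ≤ A.subgroupOf H := fun x hx =>
      Subgroup.mem_subgroupOf.2 (hall _ (hST x hx))
    have hi : (A.subgroupOf H).index = 2 := by
      have h3 := (A.subgroupOf H).card_mul_index
      rw [Nat.card_congr (Subgroup.subgroupOfEquivOfLe h.hAH.le).toEquiv, h.card_H, mul_comm 2] at h3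
      exact Nat.eq_of_mul_eq_mul_left Nat.card_pos h3
    have h2d := Subgroup.index_dvd_of_le hle
    rw [hi] at h2d
    exact S.not_dvd_index h2d

/-- No element of `H` outside `A` is conjugate to an element of `A`. -/
theorem not_fused {w g : G} (hw : w ∈ H) (hwA : w ∉ A) : g * w * g⁻¹ ∉ A := by
  intro ha
  set a := g * w * g⁻¹ with hag
  have ha2 : a * a = 1 := by
    rw [hag, show g * w * g⁻¹ * (g * w * g⁻¹) = g * (w * w) * g⁻¹ by group, h.hD w hw hwA]; group
  have ha1 : a ≠ 1 := fun hc => hwA ((conj_eq_one_iff.1 hc) ▸ one_mem A)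
  obtain ⟨e, he, he2, he1, heA⟩ := h.exists_into_A h1 h2 o1 o2 hne (g := g) fun e he he2 => by
    rw [← h.cent ha ha2 ha1, Subgroup.mem_centralizer_singleton_iff, hag]
    calc g * e * g⁻¹ * (g * w * g⁻¹) = g * (e * w) * g⁻¹ := by group
      _ = g * w * g⁻¹ * (g * e * g⁻¹) := by rw [← h.central he he2 w hw]; group
  have := (h.normalizes (n := g⁻¹) heA ?_ ?_ ?_).2 a ha
  · exact hwA (by simpa [hag, mul_assoc] using this)
  · rw [show g * e * g⁻¹ * (g * e * g⁻¹) = g * (e * e) * g⁻¹ by group, he2]; group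
  · exact fun hc => he1 (conj_eq_one_iff.1 hc)
  · simpa [mul_assoc] using he

/-- A subgroup of index two meeting `H` in `A` with abelian centralizers of involutions. -/
theorem exists_index_two : ∃ G0 : Subgroup G, G0.index = 2 ∧ (∀ x ∈ H, x ∈ G0 ↔ x ∈ A) ∧
    ∀ x ∈ G0, orderOf x = 2 → ∀ y ∈ G0, ∀ z ∈ G0,
      y * x = x * y → z * x = x * z → y * z = z * y := by
  classical
  haveI : Fact (Nat.Prime 2) := ⟨Nat.prime_two⟩
  obtain ⟨T, hTH, w, hwT, hwA⟩ := h.exists_sylow h1 h2 o1 o2 hne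
  let φ : (T : Subgroup G) →* Multiplicative (ZMod 2) :=
    MonoidHom.mk' (fun t => if (t : G) ∈ A then 1 else Multiplicative.ofAdd 1) fun a b => by
      simp only [Subgroup.coe_mul]
      by_cases ha : (a : G) ∈ A
      · by_cases hb : (b : G) ∈ A
        · rw [if_pos ha, if_pos hb, if_pos (mul_mem ha hb), mul_one]
        · rw [if_pos ha, if_neg hb, if_neg ((Subgroup.mul_mem_cancel_left A ha).not.2 hb), one_mul]
      · by_cases hb : (b : G) ∈ A
        · rw [if_neg ha, if_pos hb, if_neg ((Subgroup.mul_mem_cancel_right A hb).not.2 ha), mul_one]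
        · rw [if_neg ha, if_neg hb, if_pos (h.mul_mem_A (hTH a.2) ha (hTH b.2) hb)]
          exact ofAdd_one_mul_self.symm
  have hout : ∀ t : (T : Subgroup G), (t : G) ∉ A → φ t ≠ 1 := fun t ht => by
    simp only [φ, MonoidHom.mk'_apply, if_neg ht]; exact ofAdd_one_ne_one
  set f := φ.transfer with hf
  have hfT : ∀ x ∈ (T : Subgroup G), x ∉ A → f x ≠ 1 := by
    intro x hx hxA
    refine CfsgLib.TwoFusion.transfer_ne_one_of_controlled Nat.prime_two
      ((Nat.Prime.coprime_iff_not_dvd Nat.prime_two).2 T.not_dvd_index) φ x hx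
      ⟨1, by rw [h.ne_top_sq (hTH hx) hxA, pow_one]⟩ (hout _ hxA) fun m a hm => ?_
    have hx2 : x * x = 1 := h.hD x (hTH hx) hxA
    rcases Nat.even_or_odd' m with ⟨k, hk | hk⟩
    · have hxm : x ^ m = 1 := by rw [hk, pow_mul, pow_two, hx2, one_pow]
      have : (⟨a * x ^ m * a⁻¹, hm⟩ : (T : Subgroup G)) = 1 := Subtype.ext (by simp [hxm])
      rw [this, map_one, ← map_pow]
      exact ((congrArg φ (Subtype.ext (by simp [hxm]))).trans (map_one φ)).symm
    · have hxm : x ^ m = x := by rw [hk, pow_succ, pow_mul, pow_two, hx2, one_pow, one_mul]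
      have hne' : a * x ^ m * a⁻¹ ∉ A := by
        rw [hxm]; exact h.not_fused h1 h2 o1 o2 hne (hTH hx) hxA
      have hne'' : x ^ m ∉ A := by rwa [hxm]
      rw [← map_pow]
      simp only [φ, MonoidHom.mk'_apply, Subgroup.coe_pow, if_neg hne', if_neg hne'']
  have htwo := zmod_two_mul_eq_one
  have conjT : ∀ x : G, orderOf x = 2 → ∃ g : G, g * x * g⁻¹ ∈ (T : Subgroup G) := by
    intro x hx
    obtain ⟨P, hP⟩ := (IsPGroup.of_card (n := 1) (by rw [Nat.card_zpowers, hx, pow_one]) :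
      IsPGroup 2 (Subgroup.zpowers x)).exists_le_sylow
    obtain ⟨g, hg⟩ := MulAction.exists_smul_eq G P T
    refine ⟨g, ?_⟩
    rw [← hg, Sylow.coe_subgroup_smul, Subgroup.mem_pointwise_smul_iff_inv_smul_mem, ← map_inv,
      MulAut.smul_def, MulAut.conj_apply]
    simpa [mul_assoc] using hP (Subgroup.mem_zpowers x)
  have fconj : ∀ g x : G, f (g * x * g⁻¹) = f x := fun g x => by
    rw [map_mul, map_mul, map_inv, mul_comm (f g), mul_inv_cancel_right]
  have hfH : ∀ x ∈ H, x ∉ A → f x ≠ 1 := by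
    intro x hx hxA
    obtain ⟨g, hg⟩ := conjT x (h.ne_top_sq hx hxA)
    rw [← fconj g x]
    exact hfT _ hg (h.not_fused h1 h2 o1 o2 hne hx hxA)
  have hGH : ∀ x ∈ H, x ∈ f.ker ↔ x ∈ A := by
    intro x hx
    refine ⟨fun hk => by_contra fun hxA => hfH x hx hxA (MonoidHom.mem_ker.1 hk), fun hxA => ?_⟩
    have hwx : w * x ∉ A := (Subgroup.mul_mem_cancel_right A hxA).not.2 hwA
    rw [MonoidHom.mem_ker, show x = w * (w * x) by rw [← mul_assoc, h.hD w (hTH hwT) hwA, one_mul],
      map_mul]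
    exact htwo _ _ (hfH w (hTH hwT) hwA) (hfH _ (mul_mem (hTH hwT) hx) hwx)
  refine ⟨f.ker, ?_, hGH, ?_⟩
  · refine Subgroup.index_eq_two_iff.2 ⟨w, fun b => ?_⟩
    rw [MonoidHom.mem_ker, MonoidHom.mem_ker, map_mul]
    exact zmod_two_xor _ _ (hfT w hwT hwA)
  · intro x hx hx2 y hy z hz hyx hzx
    obtain ⟨g, hg⟩ := conjT x hx2
    have hxk : g * x * g⁻¹ ∈ f.ker := MonoidHom.mem_ker.2 ((fconj g x).trans (MonoidHom.mem_ker.1 hx))
    have hgA := (hGH _ (hTH hg)).1 hxk
    have hs : g * x * g⁻¹ * (g * x * g⁻¹) = 1 := by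
      rw [show g * x * g⁻¹ * (g * x * g⁻¹) = g * (x * x) * g⁻¹ by group, ← pow_two, ← hx2,
        pow_orderOf_eq_one]
      group
    have hn1 : g * x * g⁻¹ ≠ 1 := fun hc => by
      rw [conj_eq_one_iff.1 hc, orderOf_one] at hx2; omega
    have key : ∀ v ∈ f.ker, v * x = x * v → g * v * g⁻¹ ∈ A := by
      intro v hv hvx
      refine (hGH _ ?_).1 (MonoidHom.mem_ker.2 ((fconj g v).trans (MonoidHom.mem_ker.1 hv)))
      rw [← h.cent hgA hs hn1, Subgroup.mem_centralizer_singleton_iff]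
      calc g * v * g⁻¹ * (g * x * g⁻¹) = g * (v * x) * g⁻¹ := by group
        _ = g * x * g⁻¹ * (g * v * g⁻¹) := by rw [hvx]; group
    have := h.comm_A (key y hy hyx) (key z hz hzx)
    refine (MulAut.conj g).injective ?_
    simp only [map_mul, MulAut.conj_apply]
    exact this

theorem concl_of_two_involutions : Concl G := by
  haveI : Fact (Nat.Prime 2) := ⟨Nat.prime_two⟩
  obtain ⟨G0, hidx, hGH, hab⟩ := h.exists_index_two h1 h2 o1 o2 hne
  haveI hG0n : G0.Normal := Subgroup.normal_of_index_eq_two hidx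
  have m1 : e₁ ∈ G0 := (hGH _ (h.hAH.le h1)).2 h1
  have m2 : e₂ ∈ G0 := (hGH _ (h.hAH.le h2)).2 h2
  have s1 : e₁ * e₁ = 1 := by rw [← pow_two, ← o1, pow_orderOf_eq_one]
  have s2 : e₂ * e₂ = 1 := by rw [← pow_two, ← o2, pow_orderOf_eq_one]
  have heven : Even (Nat.card G0) := even_iff_two_dvd.2
    (o1 ▸ (Subgroup.orderOf_mk (H := G0) e₁ m1) ▸ orderOf_dvd_natCard _)
  have habel : ∀ x : G0, orderOf x = 2 → IsMulCommutative ↥(Subgroup.centralizer ({x} : Set G0)) := by
    intro x hx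
    refine ⟨⟨fun a b => Subtype.ext (Subtype.ext ?_)⟩⟩
    exact hab x x.2 (by rw [Subgroup.orderOf_coe, hx]) a.1 a.1.2 b.1 b.1.2
      (congrArg Subtype.val (Subgroup.mem_centralizer_singleton_iff.1 a.2))
      (congrArg Subtype.val (Subgroup.mem_centralizer_singleton_iff.1 b.2))
  rcases Cfsg.Agent.S2202.result heven habel with hcy | hnor | ⟨F, iF, iT, B, iB, iBf, hch, hBodd, ⟨eq⟩⟩
  · exfalso
    classical
    -- two commuting involutions cannot lie in a cyclic group
    let u₁ : G0 := ⟨e₁, m1⟩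
    let u₂ : G0 := ⟨e₂, m2⟩
    have hpE : IsPGroup 2 (Subgroup.subgroupOf (omega h) G0) := fun x => ⟨1, Subtype.ext (Subtype.ext (by
      rw [pow_one, pow_two]; exact (Subgroup.mem_subgroupOf.1 x.2).2))⟩
    obtain ⟨P, hP⟩ := hpE.exists_le_sylow
    haveI := hcy P
    haveI := Fintype.ofFinite (P : Subgroup G0)
    have hle := IsCyclic.card_pow_eq_one_le (α := (P : Subgroup G0)) (n := 2) two_pos
    let p₁ : (P : Subgroup G0) := ⟨u₁, hP (Subgroup.mem_subgroupOf.2 ⟨h1, s1⟩)⟩
    let p₂ : (P : Subgroup G0) := ⟨u₂, hP (Subgroup.mem_subgroupOf.2 ⟨h2, s2⟩)⟩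
    have hsub : ({1, p₁, p₂} : Finset (P : Subgroup G0)) ⊆
        Finset.univ.filter fun a : (P : Subgroup G0) => a ^ 2 = 1 := by
      intro a ha
      rw [Finset.mem_filter]
      refine ⟨Finset.mem_univ _, ?_⟩
      simp only [Finset.mem_insert, Finset.mem_singleton] at ha
      rcases ha with rfl | rfl | rfl
      · simp
      · exact Subtype.ext (Subtype.ext (by simpa [p₁, u₁, pow_two] using s1))
      · exact Subtype.ext (Subtype.ext (by simpa [p₂, u₂, pow_two] using s2))
    have hc3 : ({1, p₁, p₂} : Finset (P : Subgroup G0)).card = 3 := by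
      rw [Finset.card_eq_three]
      refine ⟨1, p₁, p₂, fun hc => ?_, fun hc => ?_, fun hc => hne ?_, rfl⟩
      · have : e₁ = 1 := (congrArg (fun a : (P : Subgroup G0) => ((a : G0) : G)) hc).symm
        rw [this, orderOf_one] at o1; omega
      · have : e₂ = 1 := (congrArg (fun a : (P : Subgroup G0) => ((a : G0) : G)) hc).symm
        rw [this, orderOf_one] at o2; omega
      · exact congrArg (fun a : (P : Subgroup G0) => ((a : G0) : G)) hc
    have := Finset.card_le_card hsub
    omega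
  · exfalso
    obtain ⟨P⟩ : Nonempty (Sylow 2 G0) := inferInstance
    haveI := hnor P
    haveI := P.isPGroup'.isNilpotent
    have hodd : Odd (Nat.card (G0 ⧸ (P : Subgroup G0))) := by
      rw [← Subgroup.index_eq_card]
      exact Nat.not_even_iff_odd.1 fun he => P.not_dvd_index (even_iff_two_dvd.1 he)
    haveI := Cfsg.Agent.S0205.result hodd
    haveI : Group.IsSolvable G0 := solvable_of_ker_le_range (P : Subgroup G0).subtype
      (QuotientGroup.mk' (P : Subgroup G0)) (by rw [QuotientGroup.ker_mk', Subgroup.range_subtype])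
    haveI : Group.IsSolvable (G ⧸ G0) := by
      have hc2 : Nat.card (G ⧸ G0) = 2 := by rw [← Subgroup.index_eq_card, hidx]
      haveI := isCyclic_of_prime_card hc2
      exact Group.isSolvable_of_comm fun a b => IsMulCommutative.is_comm.comm a b
    exact h.hns (solvable_of_ker_le_range G0.subtype (QuotientGroup.mk' G0)
      (by rw [QuotientGroup.ker_mk', Subgroup.range_subtype]))
  · haveI := iBf
    haveI := hch
    -- move the first involution to a unitriangular element
    have hsnd : ∀ v : G0, v * v = 1 → (eq v).2 = 1 := fun v hv =>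
      eq_one_of_sq_of_odd hBodd (by rw [← Prod.snd_mul, ← map_mul, hv, map_one, Prod.snd_one])
    let u₁ : G0 := ⟨e₁, m1⟩
    have hu₁ : u₁ * u₁ = 1 := Subtype.ext s1
    obtain ⟨k, x, hx0, hk⟩ := exists_conj_upS (u := (eq u₁).1)
      (by rw [← Prod.fst_mul, ← map_mul, hu₁, map_one, Prod.fst_one]) (fun hc => by
        have : u₁ = 1 := eq.injective (by
          rw [map_one]; exact Prod.ext hc (hsnd u₁ hu₁))
        rw [show e₁ = 1 from congrArg Subtype.val this, orderOf_one] at o1; omega)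
    let e' : G0 ≃* SL(2, F) × B := eq.trans ((MulAut.conj k).prodCongr (MulEquiv.refl B))
    have he' : ∀ v, e' v = (k * (eq v).1 * k⁻¹, (eq v).2) := fun v => rfl
    let ι : SL(2, F) →* G := G0.subtype.comp (e'.symm.toMonoidHom.comp (MonoidHom.inl SL(2, F) B))
    have hιm : ∀ s, ι s ∈ G0 := fun s => (e'.symm (s, 1)).2
    have hιinj : Function.Injective ι := fun a b hab => by
      have := e'.symm.injective (Subtype.ext hab : e'.symm (a, 1) = e'.symm (b, 1))
      exact congrArg Prod.fst this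
    have he₁ : ι (upS x) = e₁ := by
      have : e' u₁ = (upS x, 1) := by rw [he', hk, hsnd u₁ hu₁]
      show ((e'.symm (upS x, 1) : G0) : G) = e₁
      rw [← this, MulEquiv.symm_apply_apply]
    let cg : G → SL(2, F) →* G0 := fun g =>
      ((MulAut.conj g).toMonoidHom.comp ι).codRestrict G0 fun s => hG0n.conj_mem _ (hιm s) g
    let α : G → SL(2, F) →* SL(2, F) := fun g =>
      ((MonoidHom.fst SL(2, F) B).comp e'.toMonoidHom).comp (cg g)
    have hα : ∀ g s, ι (α g s) = g * ι s * g⁻¹ := fun g s => by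
      have hb : (e' (cg g s)).2 = 1 :=
        hom_odd_trivial hBodd (((MonoidHom.snd SL(2, F) B).comp e'.toMonoidHom).comp (cg g)) s
      show ((e'.symm ((e' (cg g s)).1, 1) : G0) : G) = _
      rw [← hb, Prod.mk.eta, MulEquiv.symm_apply_apply]
      rfl
    have hαmul : ∀ g g' s, α (g * g') s = α g (α g' s) := fun g g' s => hιinj (by
      rw [hα, hα, hα]; group)
    have hα1 : ∀ s, α 1 s = s := fun s => hιinj (by rw [hα]; group)
    let αe : G → SL(2, F) ≃* SL(2, F) := fun g =>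
      { toFun := α g
        invFun := α g⁻¹
        left_inv := fun s => by rw [← hαmul, inv_mul_cancel, hα1]
        right_inv := fun s => by rw [← hαmul, mul_inv_cancel, hα1]
        map_mul' := (α g).map_mul }
    let Φ : G →* MulAut SL(2, F) :=
      { toFun := αe
        map_one' := MulEquiv.ext hα1
        map_mul' := fun g g' => MulEquiv.ext (hαmul g g') }
    have hΦG0 : ∀ g : G0, Φ g = MulAut.conj (e' g).1 := fun g => MulEquiv.ext fun s => by
      show (e' (cg g s)).1 = (e' g).1 * s * ((e' g).1)⁻¹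
      have : cg g s = g * e'.symm (s, 1) * g⁻¹ := Subtype.ext rfl
      rw [this]
      simp
    have hconjinj : Function.Injective (MulAut.conj : SL(2, F) →* MulAut SL(2, F)) := by
      rw [injective_iff_map_eq_one]
      refine fun s hs => eq_one_of_center (Subgroup.mem_center_iff.2 fun g => ?_)
      have := DFunLike.congr_fun hs g
      rw [MulAut.conj_apply, MulAut.one_apply, mul_inv_eq_iff_eq_mul] at this
      exact this.symm
    obtain ⟨w, hw, hwA⟩ := h.exists_outside
    have hwfix : ∀ t, Φ w (upS t) = upS t := fun t => hιinj (by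
      show ι (α w (upS t)) = ι (upS t)
      rw [hα]
      have hH : ι (upS t) ∈ H := by
        rw [← h.cent h1 s1 (fun hc => by rw [hc, orderOf_one] at o1; omega),
          Subgroup.mem_centralizer_singleton_iff, ← he₁, ← map_mul, ← map_mul, ← upS_add, ← upS_add,
          add_comm]
      have hA := (hGH _ hH).1 (hιm _)
      rw [h.central hA (by rw [← map_mul, upS_mul_self, map_one]) w hw, mul_inv_cancel_right])
    obtain ⟨t, ht⟩ := aut_eq_conj_upS (Φ w) hwfix
    have hwG0 : w ∉ G0 := fun hc => hwA ((hGH w hw).1 hc)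
    have hrange : ∀ g, Φ g ∈ (MulAut.conj : SL(2, F) →* MulAut SL(2, F)).range := by
      intro g
      have hΦw : Φ w = MulAut.conj (upS t) := MulEquiv.ext fun s => by
        rw [ht, MulAut.conj_apply]
      by_cases hg : g ∈ G0
      · exact ⟨_, (hΦG0 ⟨g, hg⟩).symm⟩
      · have hm : g * w ∈ G0 := by
          rw [Subgroup.mul_mem_iff_of_index_two hidx]
          exact iff_of_false hg hwG0
        have : Φ g = Φ (g * w) * (Φ w)⁻¹ := by rw [map_mul, mul_inv_cancel_right]
        rw [this, hΦw]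
        exact mul_mem ⟨_, (hΦG0 ⟨_, hm⟩).symm⟩ (inv_mem ⟨_, rfl⟩)
    let ψ : G →* SL(2, F) :=
      (MonoidHom.ofInjective hconjinj).symm.toMonoidHom.comp (Φ.codRestrict _ hrange)
    have hψ : ∀ g, MulAut.conj (ψ g) = Φ g := fun g =>
      congrArg Subtype.val ((MonoidHom.ofInjective hconjinj).apply_symm_apply ⟨Φ g, hrange g⟩)
    have hsurj : Function.Surjective ψ := fun s => ⟨(e'.symm (s, 1) : G0), hconjinj (by
      rw [hψ, hΦG0, MulEquiv.apply_symm_apply])⟩
    have hcard : Nat.card ψ.ker = 2 * Nat.card B := by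
      have a1 := ψ.ker.card_mul_index
      rw [Subgroup.index_eq_card, Nat.card_congr (QuotientGroup.quotientKerEquivOfSurjective ψ hsurj).toEquiv] at a1
      have a2 := G0.card_mul_index
      rw [hidx, Nat.card_congr e'.toEquiv, Nat.card_prod] at a2
      refine Nat.eq_of_mul_eq_mul_right (Nat.card_pos (α := SL(2, F))) ?_
      rw [a1, ← a2]; ring
    refine ⟨ψ.ker, inferInstance, Or.inr ⟨Nat.card B, hBodd, hcard⟩, F, iF, iT, ?_, Or.inl
      ⟨(QuotientGroup.quotientKerEquivOfSurjective ψ hsurj).trans slEquivPSL⟩⟩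
    -- three distinct unitriangular elements
    let u₂ : G0 := ⟨e₂, m2⟩
    have hu₂ : e' u₂ = ((e' u₂).1, 1) := Prod.ext rfl (hsnd u₂ (Subtype.ext s2))
    have hιu₂ : ι (e' u₂).1 = e₂ := by
      show ((e'.symm ((e' u₂).1, 1) : G0) : G) = e₂
      rw [← hu₂, MulEquiv.symm_apply_apply]
    obtain ⟨y, hy⟩ := exists_upS_of_commute (h := (e' u₂).1) hx0 (hιinj (by
      rw [map_mul, map_mul, hιu₂, he₁, h.comm_A h2 h1]))
    have hxy : x ≠ y := fun hc => hne (by rw [← he₁, ← hιu₂, hy, hc])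
    have hy0 : y ≠ 0 := fun hc => by
      rw [← hιu₂, hy, hc, CfsgLib.SL2.upS_zero, map_one, orderOf_one] at o2; omega
    classical
    have h3 : ({0, x, y} : Finset F).card ≤ Fintype.card F := Finset.card_le_univ _
    rw [Finset.card_eq_three.2 ⟨0, x, y, hx0.symm, hy0.symm, hxy, rfl⟩] at h3
    obtain ⟨⟨n, hn⟩, -, hc⟩ := FiniteField.card F 2
    rcases n with - | - | n
    · omega
    · simp [hc] at h3
    · rw [hc]
      calc 3 < 2 ^ 2 := by norm_num
        _ ≤ 2 ^ (n + 1 + 1) := Nat.pow_le_pow_right two_pos (by omega)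

end Hyp

end CfsgLib.GWApps.GenDihedral
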